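import Mathlib

/-!
# Elementary tools for groups with a regular cyclic subgroup

* `isPretransitive_of_normal`: a normal subgroup with an orbit covering all points but one
* `eq_one_of_stabilizer`: a homomorphism killing a point stabiliser and a transitive subgroup
* `sign_of_pretransitive_zpowers`: the sign of a generator of a regular cyclic group
-/

set_option autoImplicit false

open MulAction

namespace CfsgLib.CyclicZ

variable {G : Type*} [Group G] {Ω : Type*} [MulAction G Ω]

/-- A normal subgroup of a transitive group moving one point onto all points but one is transitive,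
the number of points being at least three. -/
theorem isPretransitive_of_normal [IsPretransitive G Ω] (N : Subgroup G) [hN : N.Normal]
    {α β : Ω} (hαβ : α ≠ β) (hthree : ∃ γ : Ω, γ ≠ α ∧ γ ≠ β)
    (h : ∀ γ : Ω, γ ≠ α → ∃ g ∈ N, g • β = γ) : ∀ γ δ : Ω, ∃ g ∈ N, g • γ = δ := by
  obtain ⟨γ₀, hγα, hγβ⟩ := hthree
  have hmove : ∃ g ∈ N, g • α ≠ α := by
    obtain ⟨t, ht⟩ := exists_smul_eq G β α
    obtain ⟨g, hg, hgγ⟩ := h γ₀ hγα
    refine ⟨t * g * t⁻¹, hN.conj_mem g hg t, fun he => hγβ ?_⟩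
    rw [mul_smul, mul_smul, ← ht, inv_smul_smul, smul_left_cancel_iff] at he
    rw [← hgγ, he]
  have hall : ∀ γ : Ω, ∃ g ∈ N, g • β = γ := by
    intro γ
    rcases eq_or_ne γ α with rfl | hne
    · obtain ⟨g, hg, hgα⟩ := hmove
      obtain ⟨k, hk, hkg⟩ := h _ hgα
      exact ⟨g⁻¹ * k, N.mul_mem (N.inv_mem hg) hk, by rw [mul_smul, hkg, inv_smul_smul]⟩
    · exact h γ hne
  intro γ δ
  obtain ⟨g, hg, rfl⟩ := hall γ
  obtain ⟨k, hk, rfl⟩ := hall δ
  exact ⟨k * g⁻¹, N.mul_mem hk (N.inv_mem hg), by rw [mul_smul, inv_smul_smul]⟩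

/-- A homomorphism whose kernel contains a point stabiliser and is transitive is trivial. -/
theorem eq_one_of_stabilizer {M : Type*} [Group M] (φ : G →* M) (α : Ω)
    (hs : ∀ g : G, g • α = α → φ g = 1) (ht : ∀ γ : Ω, ∃ g : G, φ g = 1 ∧ g • α = γ) (e : G) :
    φ e = 1 := by
  obtain ⟨g, hg, hgα⟩ := ht (e • α)
  have := hs (g⁻¹ * e) (by rw [mul_smul, ← hgα, inv_smul_smul])
  rwa [map_mul, map_inv, hg, inv_one, one_mul] at this

/-- A fixed-point-free permutation acting transitively through its powers is a cycle on all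
points. -/
theorem sign_of_pretransitive_zpowers [Fintype Ω] [DecidableEq Ω] (z : G) (α : Ω)
    (hne : z • α ≠ α) (h : ∀ γ : Ω, ∃ k : ℤ, z ^ k • α = γ) :
    Equiv.Perm.sign (MulAction.toPermHom G Ω z) = -(-1) ^ Fintype.card Ω := by
  set σ := MulAction.toPermHom G Ω z with hσ
  have hpow : ∀ (k : ℤ) (x : Ω), (σ ^ k) x = z ^ k • x := fun k x => by
    rw [hσ, ← map_zpow]; rfl
  have hmove : ∀ x : Ω, σ x ≠ x := by
    intro x hx
    obtain ⟨k, hk⟩ := h x
    have hx' : z • x = x := hx
    rw [← hk, ← mul_smul, ← zpow_one_add, add_comm, zpow_add_one, mul_smul,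
      smul_left_cancel_iff] at hx'
    exact hne hx'
  have hcyc : σ.IsCycle := by
    refine ⟨α, hmove α, fun y _ => ?_⟩
    obtain ⟨k, hk⟩ := h y
    exact ⟨k, (hpow k α).trans hk⟩
  have hsupp : σ.support = Finset.univ := Finset.eq_univ_iff_forall.mpr fun x =>
    Equiv.Perm.mem_support.mpr (hmove x)
  rw [hcyc.sign, hsupp, Finset.card_univ]

theorem units_int_eq_or (u : ℤˣ) : u = 1 ∨ u = -1 := Int.units_eq_one_or u

/-- An element of odd order has trivial image in `ℤˣ`. -/
theorem map_eq_one_of_odd_orderOf (φ : G →* ℤˣ) {g : G} (h : Odd (orderOf g)) : φ g = 1 := by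
  rcases Int.units_eq_one_or (φ g) with h1 | h1
  · exact h1
  · exfalso
    have := congrArg φ (pow_orderOf_eq_one g)
    rw [map_pow, map_one, h1, h.neg_one_pow] at this
    exact absurd this (by decide)

/-- Elements of a subgroup of odd order have trivial image in `ℤˣ`. -/
theorem map_eq_one_of_odd_card (φ : G →* ℤˣ) {F : Subgroup G} (h : Odd (Nat.card F)) {g : G}
    (hg : g ∈ F) : φ g = 1 :=
  map_eq_one_of_odd_orderOf φ (h.of_dvd_nat (by
    rw [← Subgroup.orderOf_mk g hg]; exact orderOf_dvd_natCard _))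

/-- In a cyclic group there is at most one element of order two. -/
theorem eq_of_sq_eq_one [Finite G] [IsCyclic G] {x y : G} (hx : x ^ 2 = 1) (hx1 : x ≠ 1)
    (hy : y ^ 2 = 1) : y = 1 ∨ y = x := by
  classical
  cases nonempty_fintype G
  by_contra hcon
  obtain ⟨h1, h2⟩ := not_or.mp hcon
  have h3 : ({1, x, y} : Finset G) ⊆ Finset.univ.filter fun t : G => t ^ 2 = 1 := by
    intro t ht
    simp only [Finset.mem_insert, Finset.mem_singleton] at ht
    rcases ht with rfl | rfl | rfl <;> simp [hx, hy]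
  have h4 := Finset.card_le_card h3
  have h5 : ({1, x, y} : Finset G).card = 3 := by
    rw [Finset.card_insert_of_notMem (by simp [Ne.symm hx1, Ne.symm h1]),
      Finset.card_pair (Ne.symm h2)]
  have := IsCyclic.card_pow_eq_one_le (α := G) two_pos
  omega

/-- A subgroup acting freely and transitively on a set of points has that many elements. -/
theorem natCard_eq_of_bijective_smul {H : Subgroup G} (α : Ω) (S : Set Ω)
    (h1 : ∀ g ∈ H, g • α ∈ S) (h2 : ∀ g ∈ H, g • α = α → g = 1)
    (h3 : ∀ γ ∈ S, ∃ g ∈ H, g • α = γ) : Nat.card H = Nat.card S := by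
  refine Nat.card_congr (Equiv.ofBijective (fun g : H => (⟨(g : G) • α, h1 g g.2⟩ : S)) ⟨?_, ?_⟩)
  · intro g k hgk
    have : (g : G) • α = (k : G) • α := congrArg Subtype.val hgk
    refine Subtype.ext (inv_mul_eq_one.mp (h2 _ (H.mul_mem (H.inv_mem k.2) g.2) ?_)).symm
    rw [mul_smul, this, inv_smul_smul]
  · rintro ⟨γ, hγ⟩
    obtain ⟨g, hg, rfl⟩ := h3 γ hγ
    exact ⟨⟨g, hg⟩, rfl⟩

end CfsgLib.CyclicZ
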