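import Cfsg.Agent.CyclicZ.Involution
import Cfsg.Agent.Small.Counting

/-!
# Counting the involutions that swap two points

With two fixed points only, the conjugates of the involution and one fixed-point-free involution
swapping two given points are so many that the degree is a prime plus one and the two-point
stabiliser is as large as possible.
-/

set_option autoImplicit false
set_option linter.style.haveILetI false
set_option linter.unusedSectionVars false

open MulAction

namespace CfsgLib.CyclicZ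

variable {G : Type*} [Group G] [Finite G] {Ω : Type*} [MulAction G Ω] [FaithfulSMul G Ω]
  [Finite Ω]

/-- The ordered pairs of distinct elements. -/
theorem card_distinct_pairs :
    Nat.card {p : Ω × Ω // p.1 ≠ p.2} = Nat.card Ω * (Nat.card Ω - 1) := by
  cases nonempty_fintype Ω
  let e : {p : Ω × Ω // p.1 ≠ p.2} ≃ Σ γ : Ω, ({γ}ᶜ : Set Ω) :=
    { toFun := fun p => ⟨p.1.1, p.1.2, fun he => p.2 (he : p.1.2 = p.1.1).symm⟩
      invFun := fun s => ⟨(s.1, s.2.1), fun he => s.2.2 he.symm⟩
      left_inv := fun _ => rfl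
      right_inv := fun _ => rfl }
  have hc : ∀ γ : Ω, Nat.card ({γ}ᶜ : Set Ω) = Nat.card Ω - 1 := fun γ => by
    rw [Nat.card_coe_set_eq, Set.ncard_compl, Set.ncard_singleton]
  rw [Nat.card_congr e, Nat.card_sigma, Finset.sum_congr rfl (fun γ _ => hc γ),
    Finset.sum_const, Finset.card_univ, smul_eq_mul, Nat.card_eq_fintype_card]

namespace Frame

variable {A F : Subgroup G} {α : Ω} {a x : G}

theorem card_fixSet (h : Frame A α F a x) : Nat.card h.fixSet = 2 := by
  refine le_antisymm h.fix_card_le_two ?_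
  rw [Nat.card_coe_set_eq]
  calc 2 = ({α, a • α} : Set Ω).ncard := (Set.ncard_pair h.beta_ne.symm).symm
    _ ≤ h.fixSet.ncard := Set.ncard_le_ncard (by
      rintro γ (rfl | rfl)
      · exact h.inv_fix.1
      · exact h.inv_fix.2)

theorem two_mul_orderOf_ge (h : Frame A α F a x) : Nat.card Ω ≤ 2 * orderOf x := by
  classical
  cases nonempty_fintype Ω
  set n := Nat.card Ω with hn
  have hn4 := h.base.four_lt
  -- the conjugates of the involution
  let T := {y : G // IsConj h.inv y}
  haveI : Finite T := Subtype.finite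
  have hinvol : ∀ y : T, (y : G) * y = 1 := by
    rintro ⟨y, hy⟩
    obtain ⟨g, rfl⟩ := isConj_iff.mp hy
    show g * h.inv * g⁻¹ * (g * h.inv * g⁻¹) = 1
    rw [show g * h.inv * g⁻¹ * (g * h.inv * g⁻¹) = g * (h.inv * h.inv) * g⁻¹ by group,
      h.inv_sq, mul_one, mul_inv_cancel]
  have hT : 2 * Nat.card T = n * (n - 1) := by
    have h1 := CfsgLib.Small.card_conjugates_mul_card_centralizer h.inv
    rw [show Subgroup.centralizer ({h.inv} : Set G) = h.centr from rfl, h.card_centr,
      h.card_fixSet, h.base.card_G, h.card_stabilizer] at h1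
    refine Nat.eq_of_mul_eq_mul_right (orderOf_pos x) ?_
    calc 2 * Nat.card T * orderOf x = Nat.card T * (2 * ((2 - 1) * orderOf x)) := by ring
      _ = n * ((n - 1) * orderOf x) := h1
      _ = n * (n - 1) * orderOf x := by ring
  -- each of them moves all points but two
  let M := Σ y : T, {γ : Ω // (y : G) • γ ≠ γ}
  have hM : Nat.card M = Nat.card T * (n - 2) := by
    cases nonempty_fintype T
    rw [Nat.card_sigma]
    have hone : ∀ y : T, Nat.card {γ : Ω // (y : G) • γ ≠ γ} = n - 2 := by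
      rintro ⟨y, hy⟩
      obtain ⟨g, rfl⟩ := isConj_iff.mp hy
      have h0 : Nat.card {γ : Ω // h.inv • γ ≠ γ} = n - 2 := by
        rw [← h.card_fixSet, Nat.card_coe_set_eq, hn, ← Set.ncard_compl, ← Nat.card_coe_set_eq]
        rfl
      rw [← h0]
      refine Nat.card_congr ((MulAction.toPerm g⁻¹).subtypeEquiv fun γ => ?_)
      show (g * h.inv * g⁻¹) • γ ≠ γ ↔ h.inv • g⁻¹ • γ ≠ g⁻¹ • γ
      rw [mul_smul, mul_smul]
      exact not_congr ⟨fun e => eq_inv_smul_iff.mpr e, fun e => eq_inv_smul_iff.mp e⟩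
    rw [Finset.sum_congr rfl (fun y _ => hone y), Finset.sum_const, Finset.card_univ, smul_eq_mul,
      Nat.card_eq_fintype_card]
  let S := fun p : {p : Ω × Ω // p.1 ≠ p.2} => {y : T // (y : G) • p.1.1 = p.1.2}
  let e : M ≃ Σ p : {p : Ω × Ω // p.1 ≠ p.2}, S p :=
    { toFun := fun s => ⟨⟨(s.2.1, (s.1 : G) • s.2.1), fun he => s.2.2 he.symm⟩, s.1, rfl⟩
      invFun := fun s => ⟨s.2.1, s.1.1.1, fun he => s.1.2 (he.symm.trans s.2.2)⟩
      left_inv := fun _ => rfl
      right_inv := by
        rintro ⟨⟨⟨γ, δ⟩, hne⟩, y, hy⟩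
        simp only at hy
        subst hy
        rfl }
  let p₀ : {p : Ω × Ω // p.1 ≠ p.2} := ⟨(α, a • α), h.beta_ne.symm⟩
  have hfib : ∀ p, Nat.card (S p) = Nat.card (S p₀) := by
    rintro ⟨⟨γ, δ⟩, hne⟩
    obtain ⟨g, h1, h2⟩ := h.base.two_transitive hne h.beta_ne.symm
    change g • γ = α at h1
    change g • δ = a • α at h2
    let c : T ≃ T := (MulAut.conj g).toEquiv.subtypeEquiv fun y => by
      show IsConj h.inv y ↔ IsConj h.inv (g * y * g⁻¹)
      exact ⟨fun hy => hy.trans (isConj_iff.mpr ⟨g, rfl⟩),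
        fun hy => hy.trans (isConj_iff.mpr ⟨g⁻¹, by group⟩)⟩
    refine Nat.card_congr (c.subtypeEquiv fun y => ?_)
    show (y : G) • γ = δ ↔ (g * (y : G) * g⁻¹) • α = a • α
    rw [mul_smul, mul_smul, (inv_smul_eq_iff.mpr h1.symm : g⁻¹ • α = γ),
      ← h2, smul_left_cancel_iff]
  have hK : 2 * Nat.card (S p₀) = n - 2 := by
    have h1 : Nat.card M = n * (n - 1) * Nat.card (S p₀) := by
      cases nonempty_fintype {p : Ω × Ω // p.1 ≠ p.2}
      rw [Nat.card_congr e, Nat.card_sigma, Finset.sum_congr rfl (fun p _ => hfib p),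
        Finset.sum_const, Finset.card_univ, smul_eq_mul, ← Nat.card_eq_fintype_card,
        card_distinct_pairs]
    refine Nat.eq_of_mul_eq_mul_left (show 0 < n * (n - 1) from Nat.mul_pos (by omega) (by omega)) ?_
    calc n * (n - 1) * (2 * Nat.card (S p₀)) = 2 * Nat.card M := by rw [h1]; ring
      _ = 2 * Nat.card T * (n - 2) := by rw [hM]; ring
      _ = n * (n - 1) * (n - 2) := by rw [hT]
  -- injection into the two-point stabiliser
  have hswap : ∀ s : S p₀, a * ((s : T) : G) ∈ Subgroup.zpowers x := by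
    rintro ⟨y, hy⟩
    have hy' : (y : G) • α = a • α := hy
    refine h.x_gen _ (by rw [mul_smul, hy', h.a_a_smul]) ?_
    show (a * (y : G)) • a • α = a • α
    rw [mul_smul]
    conv_lhs => arg 2; rw [← hy', ← mul_smul, hinvol, one_smul]
  let f : Option (S p₀) → Subgroup.zpowers x := fun o =>
    o.elim 1 fun s => ⟨_, hswap s⟩
  have hfix : ∀ y : T, ∃ γ : Ω, (y : G) • γ = γ := by
    rintro ⟨y, hy⟩
    obtain ⟨g, rfl⟩ := isConj_iff.mp hy
    exact ⟨g • α, by
      show (g * h.inv * g⁻¹) • g • α = g • α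
      rw [mul_smul, mul_smul, inv_smul_smul, h.inv_fix.1]⟩
  have hf : Function.Injective f := by
    have hna : ∀ s : S p₀, a * ((s : T) : G) ≠ 1 := fun s he => by
      obtain ⟨γ, hγ⟩ := hfix s
      rw [eq_inv_of_mul_eq_one_right he, h.a_inv] at hγ
      exact h.a_ne (h.base.free h.a_mem hγ)
    rintro (_ | s) (_ | t) he
    · rfl
    · exact absurd (congrArg Subtype.val he).symm (hna t)
    · exact absurd (congrArg Subtype.val he) (hna s)
    · exact congrArg some (Subtype.ext (Subtype.ext (mul_left_cancel (congrArg Subtype.val he))))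
  have hle := Nat.card_le_card_of_injective f hf
  rw [Finite.card_option, Nat.card_zpowers] at hle
  omega

theorem exists_prime (h : Frame A α F a x) :
    ∃ p : ℕ, p.Prime ∧ 3 < p ∧ Nat.card Ω = p + 1 ∧ orderOf x = p - 1 := by
  have hn4 := h.base.four_lt
  have hge := h.two_mul_orderOf_ge
  set m := Nat.card Ω - 1 with hm
  haveI := h.F_cyclic
  let H := Subgroup.zpowers x
  have hHn : H ≤ Subgroup.normalizer (F : Set G) := by
    rw [Subgroup.zpowers_le, Subgroup.mem_normalizer_iff]
    intro f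
    refine ⟨fun hf => h.F_normal x h.x_fix f hf, fun hf => ?_⟩
    have := h.F_normal x⁻¹ ((stabilizer G α).inv_mem h.x_fix) _ hf
    simpa [mul_assoc] using this
  let e : MulAut F ≃* (ZMod m)ˣ :=
    (IsCyclic.mulAutMulEquiv F).trans (MulEquiv.cast (M := fun k => (ZMod k)ˣ) h.F_card)
  let θ₀ : H →* MulAut F := F.normalizerMonoidHom.comp (Subgroup.inclusion hHn)
  let θ : H →* (ZMod m)ˣ := e.toMonoidHom.comp θ₀
  have hθ : Function.Injective θ := by
    show Function.Injective (e ∘ θ₀)
    refine e.injective.comp ?_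
    rw [← MonoidHom.ker_eq_bot_iff, Subgroup.eq_bot_iff_forall]
    rintro ⟨g, hg⟩ hgk
    obtain ⟨j, rfl⟩ := hg
    rw [MonoidHom.mem_ker, MonoidHom.comp_apply, ← MonoidHom.mem_ker,
      Subgroup.normalizerMonoidHom_ker, Subgroup.mem_subgroupOf,
      Subgroup.mem_centralizer_iff] at hgk
    refine Subtype.ext (eq_of_smul_eq_smul (α := Ω) fun γ => ?_)
    show x ^ j • γ = (1 : G) • γ
    rw [one_smul]
    rcases eq_or_ne γ α with rfl | hγ
    · exact (h.zpow_fix j).1
    · obtain ⟨f, hf, rfl⟩ := h.F_trans γ hγ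
      rw [← mul_smul]
      exact (congrArg (· • a • α) (hgk f hf)).symm.trans
        (by rw [mul_smul]; exact congrArg (f • ·) (h.zpow_fix j).2)
  have hmpos : 0 < m := by omega
  haveI : NeZero m := ⟨by omega⟩
  have hdvd : orderOf x ∣ Nat.totient m := by
    rw [← ZMod.card_units_eq_totient, ← Nat.card_eq_fintype_card, ← Nat.card_zpowers x]
    exact Subgroup.card_dvd_of_injective θ hθ
  have htot : Nat.totient m < m := Nat.totient_lt m (by omega)
  have heq : orderOf x = Nat.totient m := by
    obtain ⟨t, ht⟩ := hdvd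
    have : 0 < Nat.totient m := Nat.totient_pos.mpr hmpos
    rcases Nat.lt_or_ge t 2 with ht2 | ht2
    · interval_cases t
      · simp at ht; omega
      · rw [ht, mul_one]
    · have := Nat.mul_le_mul_left (orderOf x) ht2
      omega
  have hsurj : Function.Surjective θ := by
    refine ((Nat.bijective_iff_injective_and_card θ).mpr ⟨hθ, ?_⟩).2
    rw [Nat.card_zpowers, Nat.card_eq_fintype_card, ZMod.card_units_eq_totient, heq]
  haveI : IsCyclic (ZMod m)ˣ := isCyclic_of_surjective θ hsurj
  have hmodd : Odd m := Nat.Even.sub_odd (by omega) h.n_even odd_one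
  obtain ⟨p, k, hp, -, hpk⟩ := (ZMod.isCyclic_units_iff_of_odd hmodd).mp inferInstance
  have hk1 : k = 1 := by
    rcases Nat.lt_or_ge k 2 with hk | hk
    · interval_cases k
      · rw [pow_zero] at hpk; omega
      · rfl
    · exfalso
      have hc := h.x_coprime
      rw [← hm, heq, hpk, Nat.totient_prime_pow hp (by omega)] at hc
      exact hp.one_lt.ne' (Nat.eq_one_of_dvd_coprimes hc
        (dvd_mul_of_dvd_left (dvd_pow_self p (by omega)) _) (dvd_pow_self p (by omega)))
  subst hk1
  rw [pow_one] at hpk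
  refine ⟨p, hp, ?_, by omega, by rw [heq, hpk, Nat.totient_prime hp]⟩
  by_contra hp3
  interval_cases p <;> first | omega | exact absurd hmodd (by rw [hpk]; decide)

end Frame

end CfsgLib.CyclicZ
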