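import Cfsg.Agent.CyclicZ.Structure

/-!
# The involution of a two-point stabiliser and its fixed points
-/

set_option autoImplicit false
set_option linter.style.haveILetI false
set_option linter.unusedSectionVars false

open MulAction

namespace CfsgLib.CyclicZ

variable {G : Type*} [Group G] [Finite G] {Ω : Type*} [MulAction G Ω] [FaithfulSMul G Ω]
  [Finite Ω]

/-- The subgroup `K` of a point stabiliser has as many elements as the orbit times the two-point
part. -/
theorem card_eq_orbit_mul (K : Subgroup G) (γ : Ω) (S : Set Ω)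
    (h1 : ∀ g ∈ K, g • γ ∈ S) (h2 : ∀ δ ∈ S, ∃ g ∈ K, g • γ = δ) :
    Nat.card K = Nat.card S * Nat.card (K ⊓ stabilizer G γ : Subgroup G) := by
  have hS : orbit K γ = S := by
    ext δ
    constructor
    · rintro ⟨⟨g, hg⟩, rfl⟩; exact h1 g hg
    · intro hδ; obtain ⟨g, hg, rfl⟩ := h2 δ hδ; exact ⟨⟨g, hg⟩, rfl⟩
  rw [← (stabilizer K γ).index_mul_card, index_stabilizer, hS, Nat.card_coe_set_eq]
  congr 1
  exact Nat.card_congr
    { toFun := fun g => ⟨g.1.1, g.1.2, g.2⟩
      invFun := fun g => ⟨⟨g.1, g.2.1⟩, g.2.2⟩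
      left_inv := fun _ => rfl
      right_inv := fun _ => rfl }

/-- A homomorphism to `ℤˣ` that is non-trivial on a subgroup halves its order. -/
theorem two_mul_card_inf_ker (φ : G →* ℤˣ) (K : Subgroup G) {g : G} (hg : g ∈ K)
    (hφ : φ g = -1) : 2 * Nat.card (K ⊓ φ.ker : Subgroup G) = Nat.card K := by
  let ψ : K →* ℤˣ := φ.comp K.subtype
  have hsurj : Function.Surjective ψ := by
    intro u
    rcases Int.units_eq_one_or u with rfl | rfl
    · exact ⟨1, map_one _⟩
    · exact ⟨⟨g, hg⟩, hφ⟩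
  have hindex : ψ.ker.index = 2 := by
    rw [Subgroup.index_ker, MonoidHom.range_eq_top.2 hsurj, Subgroup.card_top,
      Nat.card_eq_fintype_card, Fintype.card_units_int]
  rw [← ψ.ker.index_mul_card, hindex]
  congr 1
  exact Nat.card_congr
    { toFun := fun u => ⟨⟨u.1, u.2.1⟩, u.2.2⟩
      invFun := fun u => ⟨u.1.1, u.1.2, u.2⟩
      left_inv := fun _ => rfl
      right_inv := fun _ => rfl }

namespace Frame

variable {A F : Subgroup G} {α : Ω} {a x : G}

/-- The involution of the two-point stabiliser. -/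
noncomputable def inv (_h : Frame A α F a x) : G := x ^ (orderOf x / 2)

theorem base (h : Frame A α F a x) : CyclicPrimitive A α := h.toCyclicPrimitive

theorem beta_ne (h : Frame A α F a x) : a • α ≠ α := fun he => h.a_ne (h.base.free h.a_mem he)

theorem a_a_smul (h : Frame A α F a x) (γ : Ω) : a • a • γ = γ := by
  rw [← mul_smul, h.a_sq, one_smul]

theorem a_inv (h : Frame A α F a x) : a⁻¹ = a := inv_eq_of_mul_eq_one_right h.a_sq

theorem F_odd (h : Frame A α F a x) : Odd (Nat.card F) := by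
  rw [h.F_card]
  exact Nat.Even.sub_odd (by have := h.base.four_lt; omega) h.n_even odd_one

theorem zpow_fix (h : Frame A α F a x) (k : ℤ) :
    x ^ k • α = α ∧ x ^ k • a • α = a • α :=
  ⟨(stabilizer G α).zpow_mem h.x_fix k, (stabilizer G (a • α)).zpow_mem h.x_fix' k⟩

theorem stab_decomp (h : Frame A α F a x) {g : G} (hg : g • α = α) :
    ∃ f ∈ F, ∃ k : ℤ, g = f * x ^ k ∧ f • a • α = g • a • α := by
  have hne : g • a • α ≠ α := fun he => h.beta_ne (smul_left_cancel g (he.trans hg.symm))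
  obtain ⟨f, hf, hfg⟩ := h.F_trans _ hne
  have hfα : f • α = α := h.F_le hf
  obtain ⟨k, hk⟩ := Subgroup.mem_zpowers_iff.mp (h.x_gen (f⁻¹ * g)
    (by rw [mul_smul, hg, inv_smul_eq_iff, hfα]) (by rw [mul_smul, ← hfg, inv_smul_smul]))
  exact ⟨f, hf, k, by rw [hk, mul_inv_cancel_left], hfg⟩

theorem card_stabilizer (h : Frame A α F a x) :
    Nat.card (stabilizer G α) = (Nat.card Ω - 1) * orderOf x := by
  rw [card_eq_orbit_mul (stabilizer G α) (a • α) ({α}ᶜ : Set Ω)
    (fun g hg he => h.beta_ne (smul_left_cancel g (he.trans (mem_stabilizer_iff.mp hg).symm)))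
    (fun γ hγ => h.base.stabilizer_transitive h.beta_ne hγ), h.base.card_compl]
  congr 1
  rw [← Nat.card_zpowers x]
  congr 2
  ext g
  rw [Subgroup.mem_inf, mem_stabilizer_iff, mem_stabilizer_iff]
  constructor
  · rintro ⟨h1, h2⟩; exact h.x_gen g h1 h2
  · rintro ⟨k, rfl⟩; exact h.zpow_fix k

theorem order_even (h : Frame A α F a x) : 2 ∣ orderOf x := by
  rw [← even_iff_two_dvd]
  by_contra hodd
  have := map_eq_one_of_odd_orderOf (permSign G Ω) (Nat.not_even_iff_odd.mp hodd)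
  rw [h.x_sign] at this
  exact absurd this (by decide)

theorem inv_mem (h : Frame A α F a x) : h.inv ∈ Subgroup.zpowers x :=
  Subgroup.pow_mem _ (Subgroup.mem_zpowers x) _

theorem inv_sq (h : Frame A α F a x) : h.inv * h.inv = 1 := by
  obtain ⟨j, hj⟩ := h.order_even
  rw [inv, ← pow_add, hj, Nat.mul_div_cancel_left _ two_pos, ← two_mul, ← hj, pow_orderOf_eq_one]

theorem inv_ne_one (h : Frame A α F a x) : h.inv ≠ 1 := by
  obtain ⟨j, hj⟩ := h.order_even
  have hpos := orderOf_pos x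
  exact pow_ne_one_of_lt_orderOf (by omega) (by omega)

theorem inv_fix (h : Frame A α F a x) : h.inv • α = α ∧ h.inv • a • α = a • α := by
  obtain ⟨k, hk⟩ := Subgroup.mem_zpowers_iff.mp h.inv_mem
  rw [← hk]
  exact h.zpow_fix k

/-- The involution is unique in the two-point stabiliser. -/
theorem eq_inv (h : Frame A α F a x) {g : G} (hg : g ∈ Subgroup.zpowers x) (hg2 : g * g = 1)
    (hg1 : g ≠ 1) : g = h.inv := by
  rcases eq_of_sq_eq_one (x := (⟨h.inv, h.inv_mem⟩ : Subgroup.zpowers x)) (y := ⟨g, hg⟩)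
      (Subtype.ext (by simp [sq, h.inv_sq])) (fun he => h.inv_ne_one (congrArg Subtype.val he))
      (Subtype.ext (by simp [sq, hg2])) with h1 | h1
  · exact absurd (congrArg Subtype.val h1) hg1
  · exact congrArg Subtype.val h1

/-- An element mapping the two base points into the fixed points of the involution commutes with
it. -/
theorem commute_of_fixed (h : Frame A α F a x) {g : G} (h1 : h.inv • g • α = g • α)
    (h2 : h.inv • g • a • α = g • a • α) : g * h.inv = h.inv * g := by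
  have hmem : g⁻¹ * h.inv * g ∈ Subgroup.zpowers x :=
    h.x_gen _ (by rw [mul_smul, mul_smul, h1, inv_smul_smul])
      (by rw [mul_smul, mul_smul, h2, inv_smul_smul])
  have he := h.eq_inv hmem
    (by rw [show g⁻¹ * h.inv * g * (g⁻¹ * h.inv * g) = g⁻¹ * (h.inv * h.inv) * g by group,
      h.inv_sq, mul_one, inv_mul_cancel])
    (fun he => h.inv_ne_one (by
      have := congrArg (fun t => g * t * g⁻¹) he
      simpa [mul_assoc] using this))
  rw [mul_assoc, inv_mul_eq_iff_eq_mul] at he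
  exact he.symm

theorem a_comm_inv (h : Frame A α F a x) : a * h.inv = h.inv * a :=
  h.commute_of_fixed h.inv_fix.2 (by rw [h.a_a_smul]; exact h.inv_fix.1)

theorem zpow_comm_inv (h : Frame A α F a x) (k : ℤ) : x ^ k * h.inv = h.inv * x ^ k := by
  rw [inv, ← zpow_natCast x, ← zpow_add, ← zpow_add, add_comm]

/-- The fixed points of the involution. -/
noncomputable def fixSet (h : Frame A α F a x) : Set Ω := {γ | h.inv • γ = γ}

/-- The centraliser of the involution. -/
noncomputable def centr (h : Frame A α F a x) : Subgroup G := Subgroup.centralizer {h.inv}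

theorem mem_centr (h : Frame A α F a x) {g : G} : g ∈ h.centr ↔ g * h.inv = h.inv * g :=
  Subgroup.mem_centralizer_singleton_iff

theorem centr_smul (h : Frame A α F a x) {g : G} (hg : g ∈ h.centr) {γ : Ω}
    (hγ : γ ∈ h.fixSet) : g • γ ∈ h.fixSet := by
  show h.inv • g • γ = g • γ
  rw [← mul_smul, ← h.mem_centr.mp hg, mul_smul, (hγ : h.inv • γ = γ)]

theorem exists_A_centr (h : Frame A α F a x) {γ : Ω} (hγ : γ ∈ h.fixSet) :
    ∃ b ∈ A, b ∈ h.centr ∧ b • α = γ := by
  obtain ⟨b, hb, rfl⟩ := h.trans γ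
  refine ⟨b, hb, h.mem_centr.mpr (h.commute_of_fixed hγ ?_), rfl⟩
  have hab : b • a • α = a • b • α := by rw [← mul_smul, h.base.comm hb h.a_mem, mul_smul]
  rw [hab]
  exact h.centr_smul (h.mem_centr.mpr h.a_comm_inv) hγ

theorem exists_F_centr (h : Frame A α F a x) {γ : Ω} (hγ : γ ∈ h.fixSet) (hne : γ ≠ α) :
    ∃ f ∈ F, f ∈ h.centr ∧ f • a • α = γ := by
  obtain ⟨f, hf, rfl⟩ := h.F_trans γ hne
  refine ⟨f, hf, h.mem_centr.mpr (h.commute_of_fixed ?_ hγ), rfl⟩
  rw [(h.F_le hf : f • α = α)]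
  exact h.inv_fix.1

theorem card_A_centr (h : Frame A α F a x) :
    Nat.card (A ⊓ h.centr : Subgroup G) = Nat.card h.fixSet :=
  natCard_eq_of_bijective_smul α _ (fun g hg => h.centr_smul hg.2 h.inv_fix.1)
    (fun g hg hfix => h.base.free hg.1 hfix)
    (fun γ hγ => by
      obtain ⟨b, hb, hbc, hbα⟩ := h.exists_A_centr hγ
      exact ⟨b, ⟨hb, hbc⟩, hbα⟩)

theorem card_F_centr (h : Frame A α F a x) :
    Nat.card (F ⊓ h.centr : Subgroup G) = Nat.card h.fixSet - 1 := by
  rw [natCard_eq_of_bijective_smul (H := F ⊓ h.centr) (a • α) (h.fixSet \ {α}) (fun g hg => ⟨h.centr_smul hg.2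
      h.inv_fix.2, fun he => h.beta_ne (smul_left_cancel g
        ((he : g • a • α = α).trans (h.F_le hg.1 : g • α = α).symm))⟩)
    (fun g hg hfix => h.F_free g hg.1 hfix)
    (fun γ hγ => by
      obtain ⟨f, hf, hfc, hfγ⟩ := h.exists_F_centr hγ.1 hγ.2
      exact ⟨f, ⟨hf, hfc⟩, hfγ⟩)]
  rw [Nat.card_coe_set_eq, Nat.card_coe_set_eq,
    Set.ncard_diff_singleton_of_mem (show α ∈ h.fixSet from h.inv_fix.1)]

theorem card_centr (h : Frame A α F a x) :
    Nat.card h.centr = Nat.card h.fixSet * ((Nat.card h.fixSet - 1) * orderOf x) := by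
  rw [card_eq_orbit_mul h.centr α h.fixSet (fun g hg => h.centr_smul hg h.inv_fix.1)
    (fun γ hγ => by
      obtain ⟨b, -, hbc, hbα⟩ := h.exists_A_centr hγ
      exact ⟨b, hbc, hbα⟩)]
  congr 1
  rw [card_eq_orbit_mul (h.centr ⊓ stabilizer G α) (a • α) (h.fixSet \ {α})
    (fun g hg => ⟨h.centr_smul hg.1 h.inv_fix.2, fun he => h.beta_ne (smul_left_cancel g
      ((he : g • a • α = α).trans (mem_stabilizer_iff.mp hg.2).symm))⟩)
    (fun γ hγ => by
      obtain ⟨f, hf, hfc, hfγ⟩ := h.exists_F_centr hγ.1 hγ.2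
      exact ⟨f, ⟨hfc, h.F_le hf⟩, hfγ⟩)]
  rw [Nat.card_coe_set_eq, Set.ncard_diff_singleton_of_mem (show α ∈ h.fixSet from h.inv_fix.1),
    ← Nat.card_coe_set_eq, ← Nat.card_zpowers x]
  congr 2
  refine congrArg _ (le_antisymm ?_ ?_)
  · rintro g ⟨⟨-, h1⟩, h2⟩; exact h.x_gen g h1 h2
  · rintro g ⟨k, rfl⟩
    exact ⟨⟨h.mem_centr.mpr (h.zpow_comm_inv k), (h.zpow_fix k).1⟩, (h.zpow_fix k).2⟩

theorem exists_swap (h : Frame A α F a x) :
    ∃ g : G, (g * h.inv * g⁻¹) • α = a • α ∧ (g * h.inv * g⁻¹) • a • α = α := by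
  obtain ⟨γ, hγ⟩ : ∃ γ : Ω, h.inv • γ ≠ γ := by
    by_contra! hcon
    exact h.inv_ne_one (eq_of_smul_eq_smul (α := Ω) fun γ => by rw [hcon γ, one_smul])
  obtain ⟨g, h1, h2⟩ := h.base.two_transitive hγ.symm h.beta_ne.symm
  refine ⟨g, ?_, ?_⟩
  · rw [mul_smul, mul_smul, (inv_smul_eq_iff.mpr h1.symm : g⁻¹ • α = γ), h2]
  · rw [mul_smul, mul_smul, (inv_smul_eq_iff.mpr h2.symm : g⁻¹ • a • α = h.inv • γ),
      ← mul_smul h.inv, h.inv_sq, one_smul, h1]

end Frame

end CfsgLib.CyclicZ
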