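import Cfsg.Agent.CyclicZ.Fixed
import Cfsg.Agent.Small.ThompsonTransfer

/-!
# The involution of a two-point stabiliser fixes two points only

If it fixed more points, parity arguments on `Ω` and on its fixed points, and Thompson's transfer
lemma in the even part of its centraliser give a contradiction.
-/

set_option autoImplicit false
set_option linter.style.haveILetI false
set_option linter.unusedSectionVars false

open MulAction

namespace CfsgLib.CyclicZ

variable {G : Type*} [Group G] [Finite G] {Ω : Type*} [MulAction G Ω] [FaithfulSMul G Ω]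
  [Finite Ω]

theorem neg_one_zpow_eq_one {k : ℤ} : ((-1 : ℤˣ) ^ k = 1) ↔ Even k := by
  rcases Int.even_or_odd k with hk | hk
  · exact ⟨fun _ => hk, fun _ => hk.neg_one_zpow⟩
  · rw [hk.neg_one_zpow]
    exact ⟨fun h => absurd h (by decide), fun h => absurd h (Int.not_even_iff_odd.mpr hk)⟩

namespace Frame

variable {A F : Subgroup G} {α : Ω} {a x : G}

/-- The fixed points of the involution as an invariant set of its centraliser. -/
noncomputable def fixAction (h : Frame A α F a x) : SubMulAction h.centr Ω where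
  carrier := h.fixSet
  smul_mem' g _ hγ := h.centr_smul g.2 hγ

/-- The sign on the fixed points of the involution. -/
noncomputable def fixSign (h : Frame A α F a x) : h.centr →* ℤˣ :=
  permSign h.centr h.fixAction

theorem mem_centr_zpow (h : Frame A α F a x) (k : ℤ) : x ^ k ∈ h.centr :=
  h.mem_centr.mpr (h.zpow_comm_inv k)

theorem a_mem_centr (h : Frame A α F a x) : a ∈ h.centr := h.mem_centr.mpr h.a_comm_inv

/-- A subgroup of the centraliser that is normal in it and contains `C_F(i)` is transitive on the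
fixed points, when there are more than two. -/
theorem transitive_of_normal (h : Frame A α F a x) (h3 : 2 < Nat.card h.fixSet)
    (N : Subgroup h.centr) [N.Normal] (hN : ∀ g : h.centr, (g : G) ∈ F → g ∈ N)
    (γ : Ω) (hγ : γ ∈ h.fixSet) : ∃ g ∈ N, (g : G) • α = γ := by
  haveI : IsPretransitive h.centr h.fixAction := by
    refine ⟨fun u v => ?_⟩
    obtain ⟨b, -, hb, hbα⟩ := h.exists_A_centr u.2
    obtain ⟨c, -, hc, hcα⟩ := h.exists_A_centr v.2
    refine ⟨⟨c, hc⟩ * ⟨b, hb⟩⁻¹, Subtype.ext ?_⟩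
    show (c * b⁻¹) • (u : Ω) = (v : Ω)
    rw [← hbα, mul_smul, inv_smul_smul, hcα]
  let α' : h.fixAction := ⟨α, h.inv_fix.1⟩
  let β' : h.fixAction := ⟨a • α, h.inv_fix.2⟩
  have hne : α' ≠ β' := fun he => h.beta_ne (congrArg Subtype.val he).symm
  obtain ⟨δ, hδ⟩ : ∃ δ : Ω, δ ∈ h.fixSet \ {α, a • α} := by
    apply Set.nonempty_of_ncard_ne_zero
    have h1 := Set.ncard_le_ncard_diff_add_ncard h.fixSet {α, a • α}
    have h2 : ({α, a • α} : Set Ω).ncard ≤ 2 := by
      refine (Set.ncard_insert_le _ _).trans ?_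
      rw [Set.ncard_singleton]
    rw [Nat.card_coe_set_eq] at h3
    omega
  obtain ⟨hδ1, hδ2⟩ := hδ
  rw [Set.mem_insert_iff, Set.mem_singleton_iff, not_or] at hδ2
  have := isPretransitive_of_normal N hne
    ⟨⟨δ, hδ1⟩, fun he => hδ2.1 (congrArg Subtype.val he),
      fun he => hδ2.2 (congrArg Subtype.val he)⟩
    (fun ε hε => by
      obtain ⟨f, hf, hfc, hfε⟩ := h.exists_F_centr ε.2 (fun he => hε (Subtype.ext he))
      exact ⟨⟨f, hfc⟩, hN _ hf, Subtype.ext hfε⟩) α' ⟨γ, hγ⟩
  obtain ⟨g, hg, hgγ⟩ := this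
  exact ⟨g, hg, congrArg Subtype.val hgγ⟩

/-- A homomorphism to `ℤˣ` from the centraliser killing `x` is trivial. -/
theorem hom_eq_one (h : Frame A α F a x) (h3 : 2 < Nat.card h.fixSet) (φ : h.centr →* ℤˣ)
    (hx : ∀ hxc : x ∈ h.centr, φ ⟨x, hxc⟩ = 1) (g : h.centr) : φ g = 1 := by
  have hodd : ∀ u : h.centr, (u : G) ∈ F → φ u = 1 := fun u hu =>
    map_eq_one_of_odd_orderOf φ (h.F_odd.of_dvd_nat (by
      rw [← Subgroup.orderOf_coe, ← Subgroup.orderOf_mk (u : G) hu]
      exact orderOf_dvd_natCard _))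
  have hxc : x ∈ h.centr := by simpa using h.mem_centr_zpow 1
  have hxk : ∀ k : ℤ, φ ⟨x ^ k, h.mem_centr_zpow k⟩ = 1 := fun k => by
    rw [show (⟨x ^ k, h.mem_centr_zpow k⟩ : h.centr) = ⟨x, hxc⟩ ^ k from Subtype.ext rfl,
      map_zpow, hx hxc, one_zpow]
  refine eq_one_of_stabilizer φ (⟨α, h.inv_fix.1⟩ : h.fixAction) (fun u hu => ?_) (fun γ => ?_) g
  · have huα : (u : G) • α = α := congrArg Subtype.val hu
    obtain ⟨f, hf, k, hk, -⟩ := h.stab_decomp huα
    have hfc : f ∈ h.centr := by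
      have : f = (u : G) * (x ^ k)⁻¹ := by rw [hk, mul_inv_cancel_right]
      rw [this]
      exact h.centr.mul_mem u.2 (h.centr.inv_mem (h.mem_centr_zpow k))
    have : u = ⟨f, hfc⟩ * ⟨x ^ k, h.mem_centr_zpow k⟩ := Subtype.ext hk
    rw [this, map_mul, hodd _ hf, hxk, one_mul]
  · obtain ⟨u, hu, huγ⟩ := h.transitive_of_normal h3 φ.ker (fun u hu => hodd u hu) γ γ.2
    exact ⟨u, hu, Subtype.ext huγ⟩

/-- The even part of the centraliser has a homomorphism to `ℤˣ` by Thompson transfer; it is both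
trivial and non-trivial. -/
theorem false_of_odd (h : Frame A α F a x) (h3 : 2 < Nat.card h.fixSet) {m q : ℕ} {k : ℤ} {y : G}
    (hmeven : Even m) (hm : orderOf x = 2 * m) (hq : Nat.card h.fixSet = 2 * q) (hqodd : Odd q)
    (hyk : y = a * x ^ k) (hkodd : Odd k) (hyc : y ∈ h.centr) (hy2 : y * y = 1)
    (hsy : permSign G Ω y = 1) (hyα : y • α = a • α) : False := by
  classical
  have hm0 : m ≠ 0 := by have := orderOf_pos x; omega
  obtain ⟨e, h', hh', hme⟩ := Nat.exists_eq_two_pow_mul_odd hm0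
  obtain ⟨e, rfl⟩ : ∃ e', e = e' + 1 := Nat.exists_eq_succ_of_ne_zero fun he => by
    rw [he, pow_zero, one_mul] at hme
    exact Nat.not_even_iff_odd.mpr (hme ▸ hh') hmeven
  have hinv : h.inv = x ^ m := by rw [inv, hm, Nat.mul_div_cancel_left _ two_pos]
  set d : ℤ := k * (h' : ℤ) with hd
  have hdodd : Odd d := hkodd.mul ((Int.odd_coe_nat h').mpr hh')
  set r := x ^ (2 * d) with hr
  have hrord : orderOf r = 2 ^ (e + 1) := by
    refine orderOf_eq_prime_pow (p := 2) ?_ ?_
    · intro hcon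
      rw [hr, ← zpow_natCast, ← zpow_mul,
        show 2 * d * ((2 ^ e : ℕ) : ℤ) = (m : ℤ) * k by rw [hme, hd]; push_cast; ring,
        zpow_mul, zpow_natCast, ← hinv] at hcon
      obtain ⟨j, rfl⟩ := hkodd
      rw [zpow_add, zpow_mul, zpow_two, h.inv_sq, one_zpow, one_mul, zpow_one] at hcon
      exact h.inv_ne_one hcon
    · rw [hr, ← zpow_natCast, ← zpow_mul,
        show 2 * d * ((2 ^ (e + 1) : ℕ) : ℤ) = (orderOf x : ℤ) * k by
          rw [hm, hme, hd]; push_cast; ring,
        zpow_mul, zpow_natCast, pow_orderOf_eq_one, one_zpow]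
  have hxx : a * x ^ k * a = x ^ (-k) := by
    rw [zpow_neg]
    refine eq_inv_of_mul_eq_one_left ?_
    calc a * x ^ k * a * x ^ k = y * y := by rw [hyk]; group
      _ = 1 := hy2
  have hinvert : ∀ t : ℤ, a * x ^ (k * t) * a = x ^ (-(k * t)) := by
    intro t
    conv_lhs => rw [zpow_mul, ← h.a_inv]
    rw [show a⁻¹ * (x ^ k) ^ t * a⁻¹ = a * (x ^ k) ^ t * a⁻¹ by rw [h.a_inv],
      ← conj_zpow, show a * x ^ k * a⁻¹ = x ^ (-k) by rw [h.a_inv]; exact hxx, ← zpow_mul]
    congr 1
    ring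
  have hyr : y * r = a * x ^ (k * (1 + 2 * h')) := by
    rw [hyk, hr, mul_assoc, ← zpow_add]
    congr 2
    rw [hd]; ring
  have hyr2 : (y * r) * (y * r) = 1 := by
    rw [hyr, ← mul_assoc, hinvert, ← zpow_add, neg_add_cancel, zpow_zero]
  have hrc : r ∈ h.centr := h.mem_centr_zpow _
  have hsr : permSign G Ω r = 1 := by
    rw [hr, map_zpow, h.x_sign]
    exact neg_one_zpow_eq_one.mpr ⟨d, by ring⟩
  set D₀ : Subgroup G := h.centr ⊓ (permSign G Ω).ker with hD₀
  have hrD : r ∈ D₀ := ⟨hrc, hsr⟩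
  have hyD : y ∈ D₀ := ⟨hyc, hsy⟩
  have hcard : Nat.card D₀ = 2 ^ (e + 1) * (2 * (q * (2 * q - 1) * h')) := by
    have h1 := two_mul_card_inf_ker (permSign G Ω) h.centr (h.mem_centr_zpow 1)
      (by rw [zpow_one]; exact h.x_sign)
    rw [h.card_centr, hq, hm, hme] at h1
    refine Nat.eq_of_mul_eq_mul_left two_pos (h1.trans ?_)
    ring
  set R : Subgroup D₀ := (Subgroup.zpowers r).subgroupOf D₀ with hR
  have hRcard : Nat.card R = 2 ^ (e + 1) := by
    rw [hR, Nat.card_congr (Subgroup.subgroupOfEquivOfLe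
      (Subgroup.zpowers_le.mpr hrD)).toEquiv, Nat.card_zpowers, hrord]
  have hindex : R.index = 2 * (q * (2 * q - 1) * h') := by
    refine Nat.eq_of_mul_eq_mul_right (show 0 < 2 ^ (e + 1) by positivity) ?_
    conv_lhs => rw [← hRcard, R.index_mul_card, hcard]
    exact mul_comm _ _
  letI := Fintype.ofFinite (D₀ ⧸ R)
  set ψ : D₀ →* ℤˣ := Equiv.Perm.sign.comp (MulAction.toPermHom D₀ (D₀ ⧸ R)) with hψ
  have hodd : Odd (Fintype.card (D₀ ⧸ R) / 2) := by
    rw [← Nat.card_eq_fintype_card, ← Subgroup.index_eq_card, hindex,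
      Nat.mul_div_cancel_left _ two_pos]
    exact (hqodd.mul (Nat.Even.sub_odd (by omega) (even_two_mul q) odd_one)).mul hh'
  have hswap : ∀ (w : G) (hw : w ∈ D₀), w * w = 1 → w • α = a • α → ψ ⟨w, hw⟩ = -1 := by
    intro w hw hw2 hwα
    have hw1 : w ≠ 1 := fun he => h.beta_ne (by rw [← hwα, he, one_smul])
    have hmove : ∀ c : D₀ ⧸ R, MulAction.toPermHom D₀ (D₀ ⧸ R) ⟨w, hw⟩ c ≠ c := by
      intro c
      induction c using QuotientGroup.induction_on with
      | _ g =>
        intro hc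
        have hc' : ((⟨w, hw⟩ * g : D₀) : D₀ ⧸ R) = (g : D₀ ⧸ R) := hc
        have hmem := QuotientGroup.eq.mp hc'.symm
        rw [hR, Subgroup.mem_subgroupOf] at hmem
        have hmem' : (g : G)⁻¹ * w * g ∈ Subgroup.zpowers r := by
          simpa [mul_assoc] using hmem
        have hle : Subgroup.zpowers r ≤ Subgroup.zpowers x :=
          Subgroup.zpowers_le.mpr ⟨_, rfl⟩
        have he := h.eq_inv (hle hmem')
          (by rw [show (g : G)⁻¹ * w * g * ((g : G)⁻¹ * w * g) = (g : G)⁻¹ * (w * w) * g by group,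
            hw2, mul_one, inv_mul_cancel])
          (fun h1 => hw1 (by
            have := congrArg (fun t => (g : G) * t * (g : G)⁻¹) h1
            simpa [mul_assoc] using this))
        have hgc : (g : G) * h.inv = h.inv * g := h.mem_centr.mp g.2.1
        rw [mul_assoc, inv_mul_eq_iff_eq_mul, hgc] at he
        rw [mul_right_cancel he] at hwα
        exact h.beta_ne (hwα.symm.trans h.inv_fix.1)
    refine CfsgLib.Small.sign_eq_neg_one_of_moves_all ?_ hmove hodd
    refine orderOf_eq_prime ?_ fun h1 => hmove ((1 : D₀) : D₀ ⧸ R) (by rw [h1]; rfl)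
    rw [← map_pow]
    convert map_one (MulAction.toPermHom D₀ (D₀ ⧸ R))
    exact Subtype.ext (by simp [sq, hw2])
  have hyrα : (y * r) • α = a • α := by
    rw [mul_smul, hr, (h.zpow_fix _).1, hyα]
  have hψr : ψ ⟨r, hrD⟩ = 1 := by
    have h1 := hswap (y * r) (D₀.mul_mem hyD hrD) hyr2 hyrα
    rw [show (⟨y * r, D₀.mul_mem hyD hrD⟩ : D₀) = ⟨y, hyD⟩ * ⟨r, hrD⟩ from rfl, map_mul,
      hswap y hyD hy2 hyα, neg_mul, one_mul, neg_inj] at h1
    exact h1
  have hxxD : x ^ (2 : ℤ) ∈ D₀ :=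
    ⟨h.mem_centr_zpow _, by
      show permSign G Ω (x ^ (2 : ℤ)) = 1
      rw [map_zpow, h.x_sign]
      exact neg_one_zpow_eq_one.mpr even_two⟩
  have hψxx : ψ ⟨_, hxxD⟩ = 1 := by
    rw [show (⟨r, hrD⟩ : D₀) = ⟨_, hxxD⟩ ^ d from Subtype.ext (by simp [hr, zpow_mul]),
      map_zpow] at hψr
    rcases Int.units_eq_one_or (ψ ⟨_, hxxD⟩) with h1 | h1
    · exact h1
    · rw [h1, hdodd.neg_one_zpow] at hψr; exact absurd hψr (by decide)
  -- transitivity of the even part of the centraliser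
  let X : SubMulAction D₀ Ω :=
    { carrier := h.fixSet, smul_mem' := fun g _ hγ => h.centr_smul g.2.1 hγ }
  have htrans : ∀ γ ∈ h.fixSet, ∃ g : D₀, (g : G) • α = γ := by
    intro γ hγ
    obtain ⟨g, hg, hgγ⟩ := h.transitive_of_normal h3
      (((permSign G Ω).comp h.centr.subtype).ker)
      (fun u hu => map_eq_one_of_odd_card (permSign G Ω) h.F_odd hu) γ hγ
    exact ⟨⟨g, g.2, hg⟩, hgγ⟩
  haveI : IsPretransitive D₀ X := by
    refine ⟨fun u v => ?_⟩
    obtain ⟨b, hbα⟩ := htrans u u.2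
    obtain ⟨c, hcα⟩ := htrans v v.2
    refine ⟨c * b⁻¹, Subtype.ext ?_⟩
    show ((c : G) * (b : G)⁻¹) • (u : Ω) = (v : Ω)
    rw [← hbα, mul_smul, inv_smul_smul, hcα]
  have hFker : ∀ u : D₀, (u : G) ∈ F → ψ u = 1 := fun u hu =>
    map_eq_one_of_odd_orderOf ψ (h.F_odd.of_dvd_nat (by
      rw [← Subgroup.orderOf_coe, ← Subgroup.orderOf_mk (u : G) hu]
      exact orderOf_dvd_natCard _))
  let α' : X := ⟨α, h.inv_fix.1⟩
  let β' : X := ⟨a • α, h.inv_fix.2⟩
  have hne : α' ≠ β' := fun he => h.beta_ne (congrArg Subtype.val he).symm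
  have hFmem : ∀ f ∈ F, f ∈ h.centr → f ∈ D₀ := fun f hf hfc =>
    ⟨hfc, map_eq_one_of_odd_card (permSign G Ω) h.F_odd hf⟩
  have hthird : ∃ γ : X, γ ≠ α' ∧ γ ≠ β' := by
    by_contra! hcon
    have h1 : Nat.card X ≤ Nat.card ({α', β'} : Set X) := Nat.card_le_card_of_injective
      (fun γ => ⟨γ, or_iff_not_imp_left.mpr (hcon γ)⟩)
      (fun u v huv => congrArg Subtype.val huv)
    rw [Nat.card_coe_set_eq, Set.ncard_pair hne] at h1
    have h2 : Nat.card X = Nat.card h.fixSet := rfl
    omega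
  have hker := isPretransitive_of_normal ψ.ker hne hthird (fun γ hγ => by
    obtain ⟨f, hf, hfc, hfγ⟩ := h.exists_F_centr γ.2 (fun he => hγ (Subtype.ext he))
    exact ⟨⟨f, hFmem f hf hfc⟩, hFker _ hf, Subtype.ext hfγ⟩) α'
  have hall : ψ ⟨y, hyD⟩ = 1 := by
    refine eq_one_of_stabilizer ψ α' (fun u hu => ?_) (fun γ => ?_) _
    · have huα : (u : G) • α = α := congrArg Subtype.val hu
      obtain ⟨f, hf, l, hl, -⟩ := h.stab_decomp huα
      obtain ⟨j, rfl⟩ : Even l := by
        have h1 : permSign G Ω (u : G) = 1 := u.2.2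
        rw [hl, map_mul, map_zpow, h.x_sign,
          map_eq_one_of_odd_card (permSign G Ω) h.F_odd hf, one_mul] at h1
        exact neg_one_zpow_eq_one.mp h1
      have hfD : f ∈ D₀ := by
        have : f = (u : G) * ((x ^ (2 : ℤ)) ^ j)⁻¹ := by
          rw [hl, ← zpow_mul, two_mul, mul_inv_cancel_right]
        rw [this]
        exact D₀.mul_mem u.2 (D₀.inv_mem (D₀.zpow_mem hxxD j))
      have : u = ⟨f, hfD⟩ * ⟨_, hxxD⟩ ^ j := Subtype.ext (by
        simp only [MulMemClass.coe_mul, SubgroupClass.coe_zpow, hl, ← zpow_mul, two_mul])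
      rw [this, map_mul, map_zpow, hψxx, one_zpow, mul_one, hFker _ hf]
    · obtain ⟨u, hu, huγ⟩ := hker γ
      exact ⟨u, hu, huγ⟩
  rw [hswap y hyD hy2 hyα] at hall
  exact absurd hall (by decide)

/-- The involution fixes two points only. -/
theorem fix_card_le_two (h : Frame A α F a x) : Nat.card h.fixSet ≤ 2 := by
  classical
  by_contra! h3
  haveI := h.cyc
  haveI : IsCyclic (A ⊓ h.centr : Subgroup G) := Subgroup.isCyclic_of_le inf_le_left
  obtain ⟨⟨z, hzA, hzc⟩, hz⟩ := IsCyclic.exists_generator (α := (A ⊓ h.centr : Subgroup G))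
  have hzgen : ∀ g ∈ A, g ∈ h.centr → ∃ l : ℤ, z ^ l = g := by
    intro g hg hgc
    obtain ⟨l, hl⟩ := Subgroup.mem_zpowers_iff.mp (hz ⟨g, hg, hgc⟩)
    exact ⟨l, congrArg Subtype.val hl⟩
  have hzmove : z • α ≠ α := by
    intro he
    obtain rfl := h.base.free hzA he
    obtain ⟨l, hl⟩ := hzgen a h.a_mem h.a_mem_centr
    rw [one_zpow] at hl
    exact h.a_ne hl.symm
  have hxc : x ∈ h.centr := by simpa using h.mem_centr_zpow 1
  set S := h.fixSign with hS
  have heven : Even (Nat.card h.fixSet) := by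
    have h1 : Odd (Nat.card (F ⊓ h.centr : Subgroup G)) :=
      h.F_odd.of_dvd_nat (Subgroup.card_dvd_of_le inf_le_left)
    rw [h.card_F_centr] at h1
    rcases Nat.even_or_odd (Nat.card h.fixSet) with he | he
    · exact he
    · exact absurd (Nat.Odd.sub_odd he odd_one) (Nat.not_even_iff_odd.mpr h1)
  -- the sign of a generator of `C_A(i)` on the fixed points
  have hSz : S ⟨z, hzc⟩ = -1 := by
    rw [hS, fixSign, permSign_gen (G := h.centr) (Ω := h.fixAction) (H := Subgroup.zpowers ⟨z, hzc⟩)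
      (α := ⟨α, h.inv_fix.1⟩) (z := ⟨z, hzc⟩)
      (fun he => hzmove (congrArg Subtype.val he)) (fun g hg => hg) (fun γ => ?_)]
    · rw [show Nat.card h.fixAction = Nat.card h.fixSet from rfl, heven.neg_one_pow]
    · obtain ⟨b, hb, hbc, hbα⟩ := h.exists_A_centr γ.2
      obtain ⟨l, rfl⟩ := hzgen b hb hbc
      exact ⟨_, ⟨l, rfl⟩, Subtype.ext hbα⟩
  have hSx : S ⟨x, hxc⟩ = -1 := by
    refine (Int.units_eq_one_or _).resolve_left fun h1 => ?_
    have := h.hom_eq_one h3 S (fun _ => h1) ⟨z, hzc⟩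
    rw [hSz] at this
    exact absurd this (by decide)
  -- four divides the order of `x`
  obtain ⟨m, hm⟩ := h.order_even
  have hinv : h.inv = x ^ m := by rw [inv, hm, Nat.mul_div_cancel_left _ two_pos]
  have hmeven : Even m := by
    have hinvc : h.inv ∈ h.centr := h.mem_centr.mpr rfl
    have h1 : S ⟨h.inv, hinvc⟩ = 1 := by
      have : MulAction.toPermHom h.centr h.fixAction ⟨h.inv, hinvc⟩ = 1 :=
        Equiv.ext fun γ => Subtype.ext γ.2
      rw [hS, fixSign, permSign, MonoidHom.comp_apply, this, map_one]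
    rw [show (⟨h.inv, hinvc⟩ : h.centr) = ⟨x, hxc⟩ ^ m from Subtype.ext (by simp [hinv]),
      map_pow, hSx] at h1
    rcases Nat.even_or_odd m with he | he
    · exact he
    · rw [he.neg_one_pow] at h1; exact absurd h1 (by decide)
  have hsinv : permSign G Ω h.inv = 1 := by rw [hinv, map_pow, h.x_sign, hmeven.neg_one_pow]
  -- the two signs agree on the centraliser
  have hagree : ∀ g : h.centr, permSign G Ω g * S g = 1 := fun g =>
    h.hom_eq_one h3 (((permSign G Ω).comp h.centr.subtype) * S)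
      (fun _ => by
        show permSign G Ω x * S ⟨x, hxc⟩ = 1
        rw [h.x_sign, hSx]; decide) g
  have hsz : permSign G Ω z = -1 := by
    have := hagree ⟨z, hzc⟩
    rw [hSz, mul_neg, mul_one, neg_eq_iff_eq_neg] at this
    exact this
  -- `a * inv` has no fixed points
  have hai : ∀ γ : Ω, (a * h.inv) • γ ≠ γ := by
    intro γ hγ
    obtain ⟨b, hb, rfl⟩ := h.trans γ
    set u := b⁻¹ * h.inv * b with hu
    have hu2 : u * u = 1 := by
      rw [hu, show b⁻¹ * h.inv * b * (b⁻¹ * h.inv * b) = b⁻¹ * (h.inv * h.inv) * b by group,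
        h.inv_sq, mul_one, inv_mul_cancel]
    have hau : a * u = u * a := by
      have hab := h.base.comm h.a_mem hb
      have hab' := h.base.comm h.a_mem (A.inv_mem hb)
      calc a * (b⁻¹ * h.inv * b) = (a * b⁻¹) * h.inv * b := by group
        _ = b⁻¹ * (a * h.inv) * b := by rw [hab']; group
        _ = b⁻¹ * h.inv * (a * b) := by rw [h.a_comm_inv]; group
        _ = b⁻¹ * h.inv * b * a := by rw [hab]; group
    have hfixα : (a * u) • α = α := by
      have : a * u = b⁻¹ * (a * h.inv) * b := by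
        rw [hu, ← mul_assoc, ← mul_assoc, h.base.comm h.a_mem (A.inv_mem hb)]; group
      rw [this, mul_smul, mul_smul, hγ, inv_smul_smul]
    have hfixβ : (a * u) • a • α = a • α := by
      rw [← mul_smul, show a * u * a = a * (a * u) by rw [mul_assoc, ← hau], mul_smul, hfixα]
    have hau2 : a * u * (a * u) = 1 := by
      calc a * u * (a * u) = a * (u * a) * u := by group
        _ = (a * a) * (u * u) := by rw [← hau]; group
        _ = 1 := by rw [h.a_sq, hu2, one_mul]
    by_cases hau1 : a * u = 1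
    · have : u = a := by rw [← h.a_inv]; exact eq_inv_of_mul_eq_one_right hau1
      have hia : h.inv = a := by
        have e : h.inv = b * u * b⁻¹ := by rw [hu]; group
        rw [e, this, h.base.comm hb h.a_mem, mul_inv_cancel_right]
      exact h.beta_ne (hia ▸ h.inv_fix.1)
    have hui : a * u = h.inv := h.eq_inv (h.x_gen _ hfixα hfixβ) hau2 hau1
    have hu' : u = a * h.inv := by rw [← hui, ← mul_assoc, h.a_sq, one_mul]
    have hbb : b * b ∈ h.centr := by
      refine h.mem_centr.mpr ?_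
      have e1 : h.inv * b = b * (a * h.inv) := by rw [← hu', hu]; group
      symm
      calc h.inv * (b * b) = (h.inv * b) * b := by group
        _ = b * (a * h.inv) * b := by rw [e1]
        _ = b * a * (h.inv * b) := by group
        _ = b * a * (b * (a * h.inv)) := by rw [e1]
        _ = b * (a * b) * (a * h.inv) := by group
        _ = b * (b * a) * (a * h.inv) := by rw [h.base.comm h.a_mem hb]
        _ = b * b * ((a * a) * h.inv) := by group
        _ = b * b * h.inv := by rw [h.a_sq, one_mul]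
    obtain ⟨l, hl⟩ := hzgen _ (A.mul_mem hb hb) hbb
    have hleven : Even l := by
      have e := congrArg (permSign G Ω) hl
      rw [map_zpow, hsz, map_mul, Int.units_mul_self] at e
      exact neg_one_zpow_eq_one.mp e
    obtain ⟨l', rfl⟩ := hleven
    have hw2 : (b * (z ^ l')⁻¹) * (b * (z ^ l')⁻¹) = 1 := by
      have hc := h.base.comm hb (A.inv_mem (A.zpow_mem hzA l'))
      calc (b * (z ^ l')⁻¹) * (b * (z ^ l')⁻¹) = b * ((z ^ l')⁻¹ * b) * (z ^ l')⁻¹ := by group
        _ = (b * b) * (z ^ (l' + l'))⁻¹ := by rw [← hc, zpow_add]; group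
        _ = 1 := by rw [← hl, mul_inv_cancel]
    have hwA : b * (z ^ l')⁻¹ ∈ A := A.mul_mem hb (A.inv_mem (A.zpow_mem hzA l'))
    have hzl : (z ^ l') ∈ h.centr := h.centr.zpow_mem hzc l'
    have hbc : b ∈ h.centr := by
      haveI := h.cyc
      rcases eq_of_sq_eq_one (x := (⟨a, h.a_mem⟩ : A)) (y := ⟨_, hwA⟩)
        (Subtype.ext (by simp [sq, h.a_sq])) (fun e => h.a_ne (congrArg Subtype.val e))
        (Subtype.ext (by simp only [SubmonoidClass.coe_pow, OneMemClass.coe_one, sq]; exact hw2))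
        with hw | hw
      · have e : b * (z ^ l')⁻¹ = 1 := congrArg Subtype.val hw
        rw [mul_inv_eq_one.mp e]; exact hzl
      · have e : b * (z ^ l')⁻¹ = a := congrArg Subtype.val hw
        rw [mul_inv_eq_iff_eq_mul.mp e]; exact h.centr.mul_mem h.a_mem_centr hzl
    have : u = h.inv := by
      rw [hu, mul_assoc, ← h.mem_centr.mp hbc, inv_mul_cancel_left]
    rw [this] at hu'
    exact h.a_ne (mul_eq_right.mp hu'.symm)
  -- a conjugate of the involution swapping the base points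
  obtain ⟨g, hg1, hg2⟩ := h.exists_swap
  set y := g * h.inv * g⁻¹ with hy
  have hy2 : y * y = 1 := by
    rw [hy, show g * h.inv * g⁻¹ * (g * h.inv * g⁻¹) = g * (h.inv * h.inv) * g⁻¹ by group,
      h.inv_sq, mul_one, mul_inv_cancel]
  have hyfix : y • g • α = g • α := by
    rw [hy, mul_smul, mul_smul, inv_smul_smul, h.inv_fix.1]
  obtain ⟨k, hk⟩ := Subgroup.mem_zpowers_iff.mp (h.x_gen (a * y)
    (by rw [mul_smul, hg1, h.a_a_smul]) (by rw [mul_smul, hg2]))
  have hyk : y = a * x ^ k := by rw [hk, ← mul_assoc, h.a_sq, one_mul]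
  have hyc : y ∈ h.centr := hyk ▸ h.centr.mul_mem h.a_mem_centr (h.mem_centr_zpow k)
  have hsy : permSign G Ω y = 1 := by
    rw [hy, map_mul, map_mul, hsinv, mul_one, map_inv, mul_inv_cancel]
  have hkodd : Odd k := by
    rw [← Int.not_even_iff_odd]
    rintro ⟨l, rfl⟩
    set g0 := x ^ l with hg0
    set ε := a * g0 * a * g0 with hε
    have hεmem : ε ∈ Subgroup.zpowers x := by
      refine Subgroup.mul_mem _ (h.x_gen _ ?_ ?_) ⟨l, rfl⟩
      · rw [mul_smul, mul_smul, hg0, (h.zpow_fix l).2, h.a_a_smul]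
      · rw [mul_smul, mul_smul, h.a_a_smul, hg0, (h.zpow_fix l).1]
    have hconj : a * g0 * a ∈ Subgroup.zpowers x := by
      simpa [hε] using (Subgroup.zpowers x).mul_mem hεmem
        ((Subgroup.zpowers x).inv_mem (⟨l, rfl⟩ : g0 ∈ Subgroup.zpowers x))
    have hε2 : ε * ε = 1 := by
      obtain ⟨j, hj⟩ := Subgroup.mem_zpowers_iff.mp hconj
      calc ε * ε = (x ^ j * g0) * (x ^ j * g0) := by rw [hε, hj]
        _ = (x ^ j * x ^ j) * (g0 * g0) := by
          rw [hg0, ← zpow_add, ← zpow_add, ← zpow_add, ← zpow_add, ← zpow_add]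
          congr 1
          ring
        _ = a * (g0 * (a * a) * g0) * a * (g0 * g0) := by rw [hj]; group
        _ = y * y := by
          rw [h.a_sq, mul_one, hyk, zpow_add, ← hg0]; group
        _ = 1 := hy2
    have hεa : a * g0 = ε * g0⁻¹ * a := by
      rw [hε, mul_inv_cancel_right, mul_assoc _ a a, h.a_sq, mul_one]
    have hεfree : ∀ γ : Ω, (ε * a) • γ ≠ γ := by
      intro γ
      rcases eq_or_ne ε 1 with he | he
      · rw [he, one_mul]; intro hγ; exact h.a_ne (h.base.free h.a_mem hγ)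
      · rw [h.eq_inv hεmem hε2 he, ← h.a_comm_inv]; exact hai γ
    apply hεfree (g0 • g • α)
    have key : g0⁻¹ * (ε * a) * g0 = y := by
      have hc : g0⁻¹ * ε = ε * g0⁻¹ := by
        obtain ⟨j, hj⟩ := Subgroup.mem_zpowers_iff.mp hεmem
        rw [← hj, hg0, ← zpow_neg, ← zpow_add, ← zpow_add, add_comm]
      calc g0⁻¹ * (ε * a) * g0 = (g0⁻¹ * ε) * (a * g0) := by group
        _ = (ε * g0⁻¹ * a) * (g0) := by rw [hc]; group
        _ = a * g0 * g0 := by rw [← hεa]
        _ = y := by rw [hyk, zpow_add, ← hg0, mul_assoc]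
    rw [← key, mul_smul, mul_smul, inv_smul_eq_iff] at hyfix
    exact hyfix
  have hsa : permSign G Ω a = -1 := by
    rw [hyk, map_mul, map_zpow, h.x_sign, hkodd.neg_one_zpow, mul_neg, mul_one,
      neg_eq_iff_eq_neg] at hsy
    exact hsy
  -- half the number of fixed points is odd
  obtain ⟨q, hq⟩ := heven.two_dvd
  have hqodd : Odd q := by
    have hord : orderOf z = 2 * q := by
      rw [← hq, ← h.card_A_centr, ← orderOf_eq_card_of_forall_mem_zpowers hz]
      exact (Subgroup.orderOf_mk z _).symm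
    have hq0 : 0 < q := by omega
    have hzq2 : (z ^ q) * (z ^ q) = 1 := by
      rw [← pow_add, ← two_mul, ← hord, pow_orderOf_eq_one]
    have hzq : z ^ q = a := by
      rcases eq_of_sq_eq_one (x := (⟨a, h.a_mem⟩ : A)) (y := ⟨z ^ q, A.pow_mem hzA q⟩)
        (Subtype.ext (by simp [sq, h.a_sq])) (fun e => h.a_ne (congrArg Subtype.val e))
        (Subtype.ext (by simp only [SubmonoidClass.coe_pow, OneMemClass.coe_one, sq]; exact hzq2))
        with hw | hw
      · exact absurd (congrArg Subtype.val hw) (pow_ne_one_of_lt_orderOf (by omega) (by omega))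
      · exact congrArg Subtype.val hw
    rw [← hzq, map_pow, hsz] at hsa
    rcases Nat.even_or_odd q with he | he
    · rw [he.neg_one_pow] at hsa; exact absurd hsa (by decide)
    · exact he
  exact h.false_of_odd h3 hmeven hm hq hqodd hyk hkodd hyc hy2 hsy hg1

end Frame

end CfsgLib.CyclicZ
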