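import Cfsg.Agent.CyclicZ.Basic
import Cfsg.Agent.S3559
import Cfsg.Agent.Inv54.CentralizerFour
import Cfsg.Agent.S3972
import Cfsg.Agent.Perm.BurnsidePrime

/-!
# Primitive groups with a regular cyclic subgroup and a Z-group stabiliser: first properties

* `CyclicPrimitive.two_transitive`: such an insoluble group is doubly transitive
* `CyclicPrimitive.eq_bot_of_solvable`: it has no non-trivial soluble normal subgroup
-/

set_option autoImplicit false
set_option linter.style.haveILetI false
set_option linter.unusedSectionVars false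

open MulAction

namespace CfsgLib.CyclicZ

variable {G : Type*} [Group G] [Finite G] {Ω : Type*} [MulAction G Ω] [FaithfulSMul G Ω]
  [Finite Ω]

/-- An insoluble primitive group with a transitive cyclic subgroup and a Z-group stabiliser. -/
structure CyclicPrimitive (A : Subgroup G) (α : Ω) : Prop where
  cyc : IsCyclic A
  trans : ∀ γ : Ω, ∃ a ∈ A, a • α = γ
  zgrp : IsZGroup (stabilizer G α)
  nsolv : ¬ Group.IsSolvable G
  prim : IsPreprimitive G Ω

namespace CyclicPrimitive

variable {A : Subgroup G} {α : Ω}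

omit [Finite G] [Finite Ω] in
theorem comm (h : CyclicPrimitive A α) {a b : G} (ha : a ∈ A) (hb : b ∈ A) : a * b = b * a := by
  haveI := h.cyc
  letI := IsCyclic.commGroup (α := A)
  exact congrArg Subtype.val (mul_comm (⟨a, ha⟩ : A) ⟨b, hb⟩)

omit [Finite G] [Finite Ω] in
theorem free (h : CyclicPrimitive A α) {a : G} (ha : a ∈ A) {γ : Ω} (hγ : a • γ = γ) : a = 1 := by
  refine eq_of_smul_eq_smul (α := Ω) fun δ => ?_
  obtain ⟨b, hb, rfl⟩ := h.trans γ
  obtain ⟨c, hc, rfl⟩ := h.trans δ
  have key : a • α = α := by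
    rwa [← mul_smul, h.comm ha hb, mul_smul, smul_left_cancel_iff] at hγ
  rw [one_smul, ← mul_smul, h.comm ha hc, mul_smul, key]

omit [Finite G] [Finite Ω] [FaithfulSMul G Ω] in
theorem isPretransitive (h : CyclicPrimitive A α) : IsPretransitive G Ω :=
  h.prim.toIsPretransitive

omit [Finite Ω] in
theorem card_A (h : CyclicPrimitive A α) : Nat.card A = Nat.card Ω := by
  rw [natCard_eq_of_bijective_smul α (Set.univ : Set Ω) (fun g _ => Set.mem_univ _)
    (fun g hg hfix => h.free hg hfix) (fun γ _ => h.trans γ)]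
  exact Nat.card_congr (Equiv.Set.univ Ω)

omit [Finite Ω] [FaithfulSMul G Ω] in
theorem card_G (h : CyclicPrimitive A α) :
    Nat.card G = Nat.card Ω * Nat.card (stabilizer G α) := by
  haveI := h.isPretransitive
  rw [← (stabilizer G α).index_mul_card, index_stabilizer_of_transitive G α]

omit [Finite Ω] [FaithfulSMul G Ω] in
theorem decomp (h : CyclicPrimitive A α) (g : G) :
    ∃ a ∈ A, ∃ b ∈ stabilizer G α, g = a * b := by
  obtain ⟨a, ha, hga⟩ := h.trans (g • α)
  exact ⟨a, ha, a⁻¹ * g, mem_stabilizer_iff.mpr (by rw [mul_smul, ← hga, inv_smul_smul]),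
    (mul_inv_cancel_left a g).symm⟩

theorem four_lt (h : CyclicPrimitive A α) : 4 < Nat.card Ω := by
  by_contra hcon
  apply h.nsolv
  haveI : Group.IsSolvable (Equiv.Perm Ω) :=
    CfsgLib.Inv54.isSolvable_perm_of_card_le_four (by omega)
  exact Group.isSolvable_of_isSolvable_injective
    (f := MulAction.toPermHom G Ω) MulAction.toPerm_injective

theorem eq_bot_of_solvable (h : CyclicPrimitive A α) (N : Subgroup G) [N.Normal]
    (hN : Group.IsSolvable N) : N = ⊥ := by
  by_contra hne
  haveI := h.prim
  have hfix : fixedPoints N Ω ≠ Set.univ := by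
    intro he
    refine hne ((Subgroup.eq_bot_iff_forall _).mpr fun n hn => ?_)
    refine eq_of_smul_eq_smul (α := Ω) fun γ => ?_
    rw [one_smul]
    exact (Set.eq_univ_iff_forall.mp he γ : γ ∈ fixedPoints N Ω) ⟨n, hn⟩
  have htr := IsQuasiPreprimitive.isPretransitive_of_normal (N := N) hfix
  apply h.nsolv
  haveI := h.zgrp
  haveI : Group.IsSolvable N := hN
  haveI : Group.IsSolvable (G ⧸ N) := by
    refine Group.isSolvable_of_surjective
      (f := (QuotientGroup.mk' N).comp (stabilizer G α).subtype) fun q => ?_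
    obtain ⟨g, rfl⟩ := QuotientGroup.mk'_surjective N q
    obtain ⟨⟨n, hn⟩, hnα⟩ := exists_smul_eq N α (g • α)
    refine ⟨⟨n⁻¹ * g, mem_stabilizer_iff.mpr ?_⟩, ?_⟩
    · have : n • α = g • α := hnα
      rw [mul_smul, ← this, inv_smul_smul]
    · show (QuotientGroup.mk' N) (n⁻¹ * g) = _
      rw [map_mul, map_inv, (QuotientGroup.eq_one_iff _).mpr hn |> (fun e => (e :
        QuotientGroup.mk' N n = 1)), inv_one, one_mul]
  exact (Group.isSolvable_iff_subgroup_quotient N).mpr ⟨inferInstance, inferInstance⟩

theorem two_transitive (h : CyclicPrimitive A α) {a b c d : Ω} (hab : a ≠ b) (hcd : c ≠ d) :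
    ∃ g : G, g • a = c ∧ g • b = d := by
  suffices IsMultiplyPretransitive G Ω 2 from is_two_pretransitive_iff.mp this hab hcd
  haveI := h.prim
  haveI htr := h.isPretransitive
  have hn := h.four_lt
  have hreg : IsPretransitive A Ω ∧ ∀ γ : Ω, stabilizer A γ = ⊥ := by
    refine ⟨⟨fun γ δ => ?_⟩, fun γ => (Subgroup.eq_bot_iff_forall _).mpr fun a ha => ?_⟩
    · obtain ⟨s, hs, rfl⟩ := h.trans γ
      obtain ⟨t, ht, rfl⟩ := h.trans δ
      exact ⟨⟨t * s⁻¹, A.mul_mem ht (A.inv_mem hs)⟩, by
        show (t * s⁻¹) • s • α = t • α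
        rw [mul_smul, inv_smul_smul]⟩
    · exact Subtype.ext (h.free a.2 ha)
  by_cases hnp : IsPrimePow (Nat.card Ω)
  · obtain ⟨p, m, hp, hm, hpm⟩ := (isPrimePow_nat_iff _).mp hnp
    classical
    cases nonempty_fintype Ω
    let f := MulAction.toPermHom G Ω
    have hf : Function.Injective f := MulAction.toPerm_injective
    haveI htr' : IsPretransitive f.range Ω :=
      ⟨fun x y => by
        obtain ⟨g, hg⟩ := exists_smul_eq G x y
        exact ⟨⟨f g, g, rfl⟩, hg⟩⟩
    have key : IsMultiplyPretransitive f.range Ω 2 := by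
      rcases Nat.lt_or_ge m 2 with hm2 | hm2
      · obtain rfl : m = 1 := by omega
        rw [pow_one] at hpm
        haveI := Fact.mk hp
        refine (CfsgLib.Perm.PrimeDegree.burnside (p := p)
          (by rw [← Nat.card_eq_fintype_card]; exact hpm.symm) f.range).resolve_left fun hs => ?_
        haveI := hs
        exact h.nsolv (Group.isSolvable_of_isSolvable_injective (f := f.rangeRestrict)
          (fun x y hxy => hf (congrArg Subtype.val hxy)))
      · by_contra hcon
        haveI := h.cyc
        obtain ⟨z, hz⟩ := IsCyclic.exists_generator (α := A)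
        have hord : orderOf (⟨f z, z, rfl⟩ : f.range) = p ^ m := by
          rw [← Subgroup.orderOf_coe]
          show orderOf (f (z : G)) = _
          rw [orderOf_injective f hf, Subgroup.orderOf_coe,
            orderOf_eq_card_of_forall_mem_zpowers hz, h.card_A, hpm]
        have hprim : IsPreprimitive f.range Ω :=
          IsPreprimitive.of_surjective (M := G) (φ := f.rangeRestrict)
            (f := { toFun := id, map_smul' := fun _ _ => rfl }) Function.surjective_id
        exact (Cfsg.Agent.S3972.result p m hp hm2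
          (by rw [← Nat.card_eq_fintype_card]; exact hpm.symm) f.range htr' hcon _ hord).1 hprim
    rw [is_two_pretransitive_iff] at key ⊢
    intro a b c d hab hcd
    obtain ⟨⟨-, g, rfl⟩, h1, h2⟩ := key hab hcd
    exact ⟨g, h1, h2⟩
  · exact (Cfsg.Agent.S3559.result htr (by omega) hnp A h.cyc hreg).resolve_left (fun hnot => hnot h.prim)

/-- The stabiliser of `α` is transitive on the remaining points. -/
theorem stabilizer_transitive (h : CyclicPrimitive A α) {β γ : Ω} (hβ : β ≠ α) (hγ : γ ≠ α) :
    ∃ b ∈ stabilizer G α, b • β = γ := by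
  obtain ⟨g, h1, h2⟩ := h.two_transitive hβ.symm hγ.symm
  exact ⟨g, h1, h2⟩

end CyclicPrimitive

end CfsgLib.CyclicZ
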