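import Cfsg.Agent.CyclicZ.Count
import Cfsg.Agent.S0732

/-!
# A primitive group with a regular cyclic subgroup and a Z-group stabiliser is `PGL(2,p)`
-/

set_option autoImplicit false
set_option linter.style.haveILetI false
set_option linter.unusedSectionVars false

open MulAction

namespace CfsgLib.CyclicZ

/-- A group with no non-trivial soluble normal subgroup. -/
def TrivialRadical (G : Type*) [Group G] : Prop :=
  ∀ N : Subgroup G, N.Normal → Group.IsSolvable N → N = ⊥

/-- The properties of `PGL(2,p)` with its factorisation into a Singer cycle and a Borel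
subgroup. -/
structure IsPGLTwo {G : Type*} [Group G] (A B : Subgroup G) (p : ℕ) : Prop where
  prime : p.Prime
  three_lt : 3 < p
  card_A : Nat.card A = p + 1
  card_B : Nat.card B = p * (p - 1)
  card_G : Nat.card G = (p + 1) * p * (p - 1)
  equiv : Nonempty (G ≃* Matrix.ProjGenLinGroup (Fin 2) (ZMod p))
  dvd_normal : ∀ N : Subgroup G, N.Normal → N ≠ ⊥ → (p + 1) * p ∣ Nat.card N
  card_sylow : Nat.card (Sylow p G) = p + 1
  exists_solvable : ∃ P : Sylow p G, Group.IsSolvable (Subgroup.normalizer (P : Set G))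

variable {G : Type*} [Group G] [Finite G] {Ω : Type*} [MulAction G Ω] [FaithfulSMul G Ω]
  [Finite Ω]

theorem CyclicPrimitive.isPGLTwo {A : Subgroup G} {α : Ω} (hb : CyclicPrimitive A α)
    (hN : NormalTop A) : ∃ p, IsPGLTwo A (stabilizer G α) p := by
  classical
  obtain ⟨F, a, x, h⟩ := exists_frame hb hN
  obtain ⟨p, hp, hp3, hn, hx⟩ := h.exists_prime
  haveI := Fact.mk hp
  haveI htr := hb.isPretransitive
  cases nonempty_fintype Ω
  have hcardB : Nat.card (stabilizer G α) = p * (p - 1) := by
    rw [h.card_stabilizer, hn, hx, Nat.add_sub_cancel]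
  have hcardG : Nat.card G = (p + 1) * p * (p - 1) := by
    rw [hb.card_G, hn, hcardB, mul_assoc]
  have hFp : Nat.card F = p := by rw [h.F_card, hn, Nat.add_sub_cancel]
  have hFfix : ∀ f ∈ F, ∀ γ : Ω, γ ≠ α → f • γ = γ → f = 1 := by
    intro f hf γ hγ hfγ
    obtain ⟨k, hk, rfl⟩ := h.F_trans γ hγ
    haveI := h.F_comm
    have hc : f * k = k * f := congrArg Subtype.val (mul_comm' (⟨f, hf⟩ : F) ⟨k, hk⟩)
    rw [← mul_smul, hc, mul_smul, smul_left_cancel_iff] at hfγ
    exact h.F_free f hf hfγ
  -- the isomorphism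
  have hequiv : Nonempty (G ≃* Matrix.ProjGenLinGroup (Fin 2) (ZMod p)) := by
    let f := MulAction.toPermHom G Ω
    have hf : Function.Injective f := MulAction.toPerm_injective
    let e : G ≃* f.range := MonoidHom.ofInjective hf
    haveI : IsPretransitive f.range Ω :=
      ⟨fun u v => by
        obtain ⟨g, hg⟩ := exists_smul_eq G u v
        exact ⟨⟨f g, g, rfl⟩, hg⟩⟩
    rcases Cfsg.Agent.S0732.result hp (by rw [← Nat.card_eq_fintype_card]; exact hn) f.range
        (by rw [← Nat.card_congr e.toEquiv]; exact hcardG) (show p - 1 < p by omega) with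
      ⟨-, ⟨e'⟩⟩ | ⟨h1, -⟩ | ⟨q, hq, hpq, hd, -⟩
    · exact ⟨e.trans e'⟩
    · omega
    · exfalso
      rcases hd with hd | hd
      · omega
      · have hpodd := hp.odd_of_ne_two (by omega)
        have hq2 : q = 2 := (Nat.prime_dvd_prime_iff_eq Nat.prime_two hq).mp
          (hd ▸ (Nat.Odd.sub_odd hpodd odd_one).two_dvd) |>.symm
        omega
  suffices hsyl : Nat.card (Sylow p G) = p + 1 ∧
      ∃ P : Sylow p G, Group.IsSolvable (Subgroup.normalizer (P : Set G)) by
    refine ⟨p, hp, hp3, hb.card_A.trans hn, hcardB, hcardG, hequiv, fun N hNn hNne => ?_, hsyl.1,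
      hsyl.2⟩
    -- normal subgroups
    haveI := hNn
    haveI := hb.prim
    have hfix : fixedPoints N Ω ≠ Set.univ := fun he =>
      hNne ((Subgroup.eq_bot_iff_forall _).mpr fun u hu => eq_of_smul_eq_smul (α := Ω) fun γ => by
        rw [one_smul]
        exact (Set.eq_univ_iff_forall.mp he γ : γ ∈ fixedPoints N Ω) ⟨u, hu⟩)
    have hNtr := IsQuasiPreprimitive.isPretransitive_of_normal (N := N) hfix
    have hmul := card_eq_orbit_mul N α (Set.univ : Set Ω) (fun _ _ => Set.mem_univ _)
      (fun δ _ => by obtain ⟨u, hu⟩ := exists_smul_eq N α δ; exact ⟨u, u.2, hu⟩)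
    rw [Nat.card_congr (Equiv.Set.univ Ω), hn] at hmul
    have hn1 : p + 1 ∣ Nat.card N := ⟨_, hmul⟩
    suffices hpN : p ∣ Nat.card N by
      exact Nat.Coprime.mul_dvd_of_dvd_of_dvd (by simp) hn1 hpN
    by_contra hpN
    have hFN : ∀ u ∈ F, u ∈ N → u = 1 := by
      intro u hu huN
      rw [← Subgroup.mem_bot]
      have : F ⊓ N = ⊥ := by
        rw [Subgroup.eq_bot_iff_card]
        refine Nat.eq_one_of_dvd_coprimes (hp.coprime_iff_not_dvd.mpr hpN)
          ((Subgroup.card_dvd_of_le inf_le_left).trans hFp.dvd) (Subgroup.card_dvd_of_le inf_le_right)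
      rw [← this]
      exact ⟨hu, huN⟩
    have hNα : ∀ u ∈ N, u • α = α → u = 1 := by
      intro u hu huα
      have hcomm : ∀ f ∈ F, u * f = f * u := by
        intro f hf
        have h1 : u * f * u⁻¹ * f⁻¹ ∈ F := F.mul_mem (h.F_normal u huα f hf) (F.inv_mem hf)
        have h2 : u * f * u⁻¹ * f⁻¹ ∈ N := by
          rw [mul_assoc, mul_assoc]
          exact N.mul_mem hu (by
            rw [← mul_assoc]; exact hNn.conj_mem _ (N.inv_mem hu) f)
        have := hFN _ h1 h2
        rwa [mul_inv_eq_one, mul_inv_eq_iff_eq_mul] at this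
      obtain ⟨f0, hf0, k, -, hf0β⟩ := h.stab_decomp huα
      have : u = f0 := by
        refine eq_of_smul_eq_smul (α := Ω) fun γ => ?_
        rcases eq_or_ne γ α with rfl | hγ
        · rw [huα]; exact (h.F_le hf0 : f0 • γ = γ).symm
        · obtain ⟨f, hf, rfl⟩ := h.F_trans γ hγ
          haveI := h.F_comm
          have hc : f0 * f = f * f0 := congrArg Subtype.val (mul_comm' (⟨f0, hf0⟩ : F) ⟨f, hf⟩)
          calc u • f • a • α = (u * f) • a • α := (mul_smul _ _ _).symm
            _ = f • u • a • α := by rw [hcomm f hf, mul_smul]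
            _ = (f * f0) • a • α := by rw [← hf0β, mul_smul]
            _ = f0 • f • a • α := by rw [← hc, mul_smul]
      subst this
      exact hFN _ hf0 hu
    have hconj : ∀ u ∈ N, ∀ v ∈ N, u ≠ 1 → v ≠ 1 → orderOf u = orderOf v := by
      intro u hu v hv hu1 hv1
      obtain ⟨k1, hk1, hk1u⟩ := h.F_trans (u • α) (fun he => hu1 (hNα u hu he))
      obtain ⟨k2, hk2, hk2v⟩ := h.F_trans (v • α) (fun he => hv1 (hNα v hv he))
      set f := k2 * k1⁻¹ with hf
      have hfF : f ∈ F := F.mul_mem hk2 (F.inv_mem hk1)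
      have hfu : f • u • α = v • α := by rw [hf, ← hk1u, mul_smul, inv_smul_smul, hk2v]
      have := hNα (v⁻¹ * (f * u * f⁻¹)) (N.mul_mem (N.inv_mem hv) (hNn.conj_mem u hu f)) (by
        rw [mul_smul, mul_smul, mul_smul,
          (inv_smul_eq_iff.mpr (h.F_le hfF : f • α = α).symm : f⁻¹ • α = α), hfu, inv_smul_smul])
      rw [inv_mul_eq_one] at this
      rw [this]
      exact (orderOf_injective (MulAut.conj f).toMonoidHom (MulAut.conj f).injective u).symm
    have hN1 : 1 < Nat.card N := Subgroup.one_lt_card_iff_ne_bot N |>.mpr hNne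
    obtain ⟨l, hl, hldvd⟩ := Nat.exists_prime_and_dvd hN1.ne'
    haveI := Fact.mk hl
    obtain ⟨v, hv⟩ := exists_prime_orderOf_dvd_card' (G := N) l hldvd
    have hpg : IsPGroup l N := by
      rintro ⟨u, hu⟩
      refine ⟨1, ?_⟩
      rw [pow_one]
      rcases eq_or_ne u 1 with rfl | hu1
      · exact one_pow _
      · refine Subtype.ext ?_
        show u ^ l = 1
        rw [← hv, ← Subgroup.orderOf_coe, ← hconj u hu v v.2 hu1 (fun e => by
          rw [← Subgroup.orderOf_coe, e, orderOf_one] at hv; exact hl.ne_one hv.symm)]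
        exact pow_orderOf_eq_one u
    haveI := hpg.isNilpotent
    exact hNne (hb.eq_bot_of_solvable N inferInstance)
  have hmult : (Nat.card G).factorization p = 1 := by
    rw [hcardG, mul_assoc, mul_left_comm,
      Nat.factorization_mul hp.ne_zero (Nat.mul_ne_zero (by omega) (by omega)),
      Finsupp.add_apply, hp.factorization_self, Nat.factorization_eq_zero_of_not_dvd]
    rw [hp.dvd_mul]
    rintro (hd | hd)
    · exact hp.one_lt.ne' (Nat.dvd_one.mp ((Nat.dvd_add_right dvd_rfl).mp hd))
    · have := Nat.le_of_dvd (by omega) hd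
      omega
  let P : Sylow p G := Sylow.ofCard F (by rw [hFp, hmult, pow_one])
  have hnorm : Subgroup.normalizer (P : Set G) = stabilizer G α := by
    have hPF : (P : Subgroup G) = F := rfl
    rw [show (P : Set G) = ((P : Subgroup G) : Set G) from rfl, hPF]
    ext g
    constructor
    · intro hg
      by_contra hne
      obtain ⟨f, hf, hf1⟩ := F.bot_or_exists_ne_one.resolve_left (fun e => by
        rw [e, Subgroup.card_bot] at hFp; exact hp.one_lt.ne hFp)
      have hmem : g⁻¹ * f * g ∈ F := (Subgroup.mem_normalizer_iff''.mp hg f).mp hf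
      have := mem_stabilizer_iff.mp (h.F_le hmem)
      rw [mul_smul, mul_smul, inv_smul_eq_iff] at this
      exact hf1 (hFfix f hf _ hne this)
    · intro hg
      rw [Subgroup.mem_normalizer_iff]
      intro f
      refine ⟨fun hf => h.F_normal g hg f hf, fun hf => ?_⟩
      simpa [mul_assoc] using h.F_normal g⁻¹ ((stabilizer G α).inv_mem hg) _ hf
  refine ⟨by rw [Sylow.card_eq_index_normalizer P, hnorm, index_stabilizer_of_transitive G α, hn],
    P, ?_⟩
  rw [hnorm]
  haveI := hb.zgrp
  infer_instance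


end CfsgLib.CyclicZ
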