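import Cfsg.Agent.CyclicZ.SylowBound
import Cfsg.Agent.Components.FStar

/-!
# Products of a cyclic group and a Z-group: reduction to the primitive case
-/

set_option autoImplicit false
set_option linter.style.haveILetI false
set_option linter.unusedSectionVars false

open MulAction
open scoped Pointwise

namespace CfsgLib.CyclicZ

open CfsgLib.Components (solvRadical le_solvRadical isSolvable_solvRadical
  solvRadical_map_subtype_le)

theorem trivialRadical_of_normal {G : Type*} [Group G] [Finite G] (hG : TrivialRadical G)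
    (K : Subgroup G) [hK : K.Normal] : TrivialRadical K := by
  intro N hN hs
  haveI := hN
  have h1 : N.map K.subtype ≤ solvRadical G :=
    (Subgroup.map_mono (le_solvRadical hs)).trans (solvRadical_map_subtype_le hK.isSubnormal)
  rw [hG (solvRadical G) inferInstance isSolvable_solvRadical, le_bot_iff,
    Subgroup.map_eq_bot_iff_of_injective _ K.subtype_injective] at h1
  exact h1

theorem trivialRadical_quotient {G : Type*} [Group G] [Finite G] (R : Subgroup G) [R.Normal]
    (hR : Group.IsSolvable R) (hmax : ∀ N : Subgroup G, N.Normal → Group.IsSolvable N → N ≤ R) :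
    TrivialRadical (G ⧸ R) := by
  intro N hN hs
  haveI := hN
  let N' := N.comap (QuotientGroup.mk' R)
  have hN' : Group.IsSolvable N' := by
    haveI := hR
    haveI : Group.IsSolvable N := hs
    refine Group.isSolvable_of_ker_le_range (Subgroup.inclusion (show R ≤ N' from fun r hr => by
      show (QuotientGroup.mk' R) r ∈ N
      rw [show (QuotientGroup.mk' R) r = 1 from (QuotientGroup.eq_one_iff r).mpr hr]
      exact N.one_mem)) ((QuotientGroup.mk' R).subgroupComap N) ?_
    rintro ⟨g, hg⟩ hgk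
    have : (QuotientGroup.mk' R) g = 1 := congrArg Subtype.val hgk
    exact ⟨⟨g, (QuotientGroup.eq_one_iff g).mp this⟩, rfl⟩
  have hle := hmax N' inferInstance hN'
  rw [Subgroup.eq_bot_iff_forall]
  intro q hq
  obtain ⟨g, rfl⟩ := QuotientGroup.mk'_surjective R q
  exact (QuotientGroup.eq_one_iff g).mpr (hle hq)

theorem factor_map {G H : Type*} [Group G] [Group H] [Finite G] {A B : Subgroup G} (f : G →* H)
    (hf : Function.Surjective f) (hA : IsCyclic A) (hB : IsZGroup B)
    (hAB : ∀ g : G, ∃ a ∈ A, ∃ b ∈ B, g = a * b) :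
    IsCyclic (A.map f) ∧ IsZGroup (B.map f) ∧
      ∀ g : H, ∃ a ∈ A.map f, ∃ b ∈ B.map f, g = a * b := by
  refine ⟨isCyclic_of_surjective _ (f.subgroupMap_surjective A),
    IsZGroup.of_surjective (f := f.subgroupMap B) (f.subgroupMap_surjective B), fun g => ?_⟩
  obtain ⟨g, rfl⟩ := hf g
  obtain ⟨a, ha, b, hb, rfl⟩ := hAB g
  exact ⟨f a, ⟨a, ha, rfl⟩, f b, ⟨b, hb, rfl⟩, map_mul f a b⟩

theorem not_isSolvable_quotient {G : Type*} [Group G] (R : Subgroup G) [R.Normal]
    (hR : Group.IsSolvable R) (hG : ¬ Group.IsSolvable G) : ¬ Group.IsSolvable (G ⧸ R) := fun h =>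
  hG ((Group.isSolvable_iff_subgroup_quotient R).mpr ⟨hR, h⟩)

/-- A Z-subgroup annihilated by `L` has order dividing `L`. -/
theorem card_dvd_of_exponent {G : Type*} [Group G] [Finite G] (A : Subgroup G) [IsZGroup A]
    {L : ℕ} (h : ∀ a ∈ A, a ^ L = 1) : Nat.card A ∣ L := by
  rw [← IsZGroup.exponent_eq_card A, Monoid.exponent_dvd_iff_forall_pow_eq_one]
  exact fun a => Subtype.ext (h a a.2)

theorem card_le_mul {G : Type*} [Group G] [Finite G] {A B : Subgroup G}
    (hAB : ∀ g : G, ∃ a ∈ A, ∃ b ∈ B, g = a * b) : Nat.card G ≤ Nat.card A * Nat.card B := by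
  rw [← Nat.card_prod]
  refine Nat.card_le_card_of_surjective (fun t : A × B => (t.1 : G) * t.2) fun g => ?_
  obtain ⟨a, ha, b, hb, rfl⟩ := hAB g
  exact ⟨(⟨a, ha⟩, ⟨b, hb⟩), rfl⟩

/-- A quotient whose kernel contains the cyclic factor is soluble. -/
theorem isSolvable_of_factor {G H : Type*} [Group G] [Group H] [Finite G] {A B : Subgroup G}
    (f : G →* H) (hf : Function.Surjective f) (hB : IsZGroup B)
    (hAB : ∀ g : G, ∃ a ∈ A, ∃ b ∈ B, g = a * b) (hAf : ∀ a ∈ A, f a = 1) :
    Group.IsSolvable H := by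
  refine Group.isSolvable_of_surjective (f := f.comp B.subtype) fun q => ?_
  obtain ⟨g, rfl⟩ := hf q
  obtain ⟨a, ha, b, hb, rfl⟩ := hAB g
  exact ⟨⟨b, hb⟩, by simp [hAf a ha]⟩

/-- A normal subgroup of `PGL(2,p)` with a full set of Sylow `p`-subgroups gives a bound. -/
theorem exists_bound {G X : Type*} [Group G] [Finite G] [Group X] [Finite X] {A' B' : Subgroup X}
    {p : ℕ} (hX : IsPGLTwo A' B' p) (K : Subgroup G) [K.Normal] (hK : K ≠ ⊥)
    (hG : TrivialRadical G) (f : K →* X) (hf : Function.Injective f) [f.range.Normal] :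
    (Subgroup.centralizer (K : Set G)).index ≤ (p + 1) * p * (p - 1) := by
  classical
  haveI := Fact.mk hX.prime
  have hp3 := hX.three_lt
  have hp := hX.prime
  have hcardK : Nat.card K = Nat.card f.range := Nat.card_congr (MonoidHom.ofInjective hf).toEquiv
  have hne : f.range ≠ ⊥ := fun he => hK (Subgroup.eq_bot_of_card_eq _ (by
    rw [hcardK, he, Subgroup.card_bot]))
  have hdvd : (p + 1) * p ∣ Nat.card K := hcardK ▸ hX.dvd_normal _ inferInstance hne
  have hdvd' : Nat.card K ∣ (p + 1) * p * (p - 1) :=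
    hX.card_G ▸ hcardK ▸ Subgroup.card_subgroup_dvd_card _
  have hmultX : (Nat.card X).factorization p = 1 := by
    rw [hX.card_G, mul_right_comm, Nat.factorization_mul (Nat.mul_ne_zero (by omega) (by omega))
      hp.ne_zero, Finsupp.add_apply, hp.factorization_self, Nat.factorization_eq_zero_of_not_dvd]
    rw [hp.dvd_mul]
    rintro (hd | hd)
    · exact hp.one_lt.ne' (Nat.dvd_one.mp ((Nat.dvd_add_right dvd_rfl).mp hd))
    · have := Nat.le_of_dvd (by omega) hd
      omega
  have hP : ∀ P : Sylow p K, Nat.card P = p := by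
    intro P
    rw [Sylow.card_eq_multiplicity]
    have h1 : (Nat.card K).factorization p ≤ 1 := hmultX ▸
      (Nat.factorization_le_iff_dvd Nat.card_pos.ne' Nat.card_pos.ne').mpr
        (hX.card_G ▸ hdvd' : Nat.card K ∣ Nat.card X) p
    have h2 : 1 ≤ (Nat.card K).factorization p :=
      (hp.dvd_iff_one_le_factorization Nat.card_pos.ne').mp ((dvd_mul_left p _).trans hdvd)
    rw [show (Nat.card K).factorization p = 1 by omega, pow_one]
  have hn : Nat.card (Sylow p K) = p + 1 := by
    rw [card_sylow_of_injective f hf (fun P Q => by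
      rw [hP, Sylow.card_eq_multiplicity, hmultX, pow_one]), hX.card_sylow]
  obtain ⟨D, hD, hCD, hindex, hker⟩ := exists_kernel K hn hP
  haveI := hD
  have hbot : D ⊓ K = ⊥ := by
    obtain ⟨Q, hQ⟩ := hX.exists_solvable
    have hQle : (Q : Subgroup X) ≤ f.range := by
      have hcop : (Nat.card Q).Coprime f.range.index := by
        rw [Sylow.card_eq_multiplicity, hmultX, pow_one, hp.coprime_iff_not_dvd]
        intro hd
        have h1 : p * p ∣ (p + 1) * p * (p - 1) := by
          rw [← hX.card_G, ← f.range.card_mul_index]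
          exact mul_dvd_mul ((dvd_mul_left p (p + 1)).trans (hcardK ▸ hdvd)) hd
        rw [mul_right_comm, Nat.mul_dvd_mul_iff_right hp.pos, hp.dvd_mul] at h1
        rcases h1 with h1 | h1
        · exact hp.one_lt.ne' (Nat.dvd_one.mp ((Nat.dvd_add_right dvd_rfl).mp h1))
        · have := Nat.le_of_dvd (by omega) h1
          omega
      intro v hv
      rw [← QuotientGroup.eq_one_iff (N := f.range), ← orderOf_eq_one_iff]
      refine Nat.eq_one_of_dvd_coprimes hcop ?_ ?_
      · refine (orderOf_map_dvd (QuotientGroup.mk' f.range) v).trans ?_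
        rw [← Subgroup.orderOf_mk v hv]
        exact orderOf_dvd_natCard _
      · rw [Subgroup.index_eq_card]
        exact orderOf_dvd_natCard _
    set P := Q.comapOfInjective f hf hQle with hPdef
    set E := D.subgroupOf K with hE
    have hEsol : Group.IsSolvable E := by
      haveI := hQ
      let g : E →* Subgroup.normalizer (Q : Set X) :=
        (f.comp E.subtype).codRestrict _ fun e => by
          have he := hker (e : K) e.2 P
          have h1 : f (e : K) ∈ Subgroup.map f (Subgroup.normalizer ((P : Subgroup K) : Set K)) :=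
            Subgroup.mem_map_of_mem f he
          have h2 := Subgroup.le_normalizer_map (H := (P : Subgroup K)) f h1
          have h3 : (P : Subgroup K).map f = (Q : Subgroup X) := by
            rw [hPdef, Sylow.coe_comapOfInjective, Subgroup.map_comap_eq_self hQle]
          rw [h3] at h2
          exact h2
      exact Group.isSolvable_of_isSolvable_injective (f := g) (fun u v huv => Subtype.ext
        (hf (congrArg Subtype.val huv)))
    have hE0 : E = ⊥ := trivialRadical_of_normal hG K E inferInstance hEsol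
    rw [Subgroup.eq_bot_iff_forall]
    rintro u ⟨huD, huK⟩
    have : (⟨u, huK⟩ : K) ∈ E := huD
    rw [hE0, Subgroup.mem_bot] at this
    exact congrArg Subtype.val this
  have hDC : D = Subgroup.centralizer (K : Set G) := by
    refine le_antisymm (fun d hd => ?_) hCD
    rw [Subgroup.mem_centralizer_iff]
    intro v hv
    have hmem : d * v * d⁻¹ * v⁻¹ ∈ D ⊓ K :=
      ⟨by rw [mul_assoc, mul_assoc]
          exact D.mul_mem hd (by rw [← mul_assoc]; exact hD.conj_mem _ (D.inv_mem hd) v),
       K.mul_mem ((inferInstance : K.Normal).conj_mem v hv d) (K.inv_mem hv)⟩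
    rw [hbot, Subgroup.mem_bot, mul_inv_eq_one, mul_inv_eq_iff_eq_mul] at hmem
    exact hmem.symm
  exact hDC ▸ hindex

/-- The arithmetic of the impossible case of two top factors. -/
theorem arith_contra {p₁ p₂ c k g a b : ℕ} (hp₁ : p₁.Prime) (hp₁' : 3 < p₁) (hp₂ : p₂.Prime)
    (hp₂' : 3 < p₂) (hc : (p₂ + 1) * p₂ ∣ c) (hk : (p₁ + 1) * p₁ ∣ k)
    (hc' : c ∣ (p₂ + 1) * p₂ * (p₂ - 1)) (hk' : k ∣ (p₁ + 1) * p₁ * (p₁ - 1))
    (hg₁ : g = (p₁ + 1) * p₁ * (p₁ - 1) * c) (hg₂ : g = (p₂ + 1) * p₂ * (p₂ - 1) * k)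
    (ha : a ∣ Nat.lcm (p₁ + 1) (p₂ + 1))
    (hb : b ∣ Nat.lcm (p₁ * (p₁ - 1)) (p₂ * (p₂ - 1))) (hab : g ≤ a * b) : False := by
  obtain ⟨d₂, rfl⟩ := hc
  obtain ⟨d₁, rfl⟩ := hk
  rw [Nat.mul_dvd_mul_iff_left (by positivity)] at hc' hk'
  obtain ⟨e₁, he₁⟩ := hk'
  obtain ⟨e₂, he₂⟩ := hc'
  have hd₁ : 0 < d₁ := Nat.pos_of_ne_zero fun h0 => by rw [h0, zero_mul] at he₁; omega
  have hd₂ : 0 < d₂ := Nat.pos_of_ne_zero fun h0 => by rw [h0, zero_mul] at he₂; omega
  have he : e₁ = e₂ := by
    have h1 := hg₁.symm.trans hg₂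
    rw [he₁, he₂] at h1
    refine Nat.eq_of_mul_eq_mul_left (show 0 < (p₁ + 1) * p₁ * ((p₂ + 1) * p₂) * (d₁ * d₂) by
      positivity) ?_
    linarith
  subst he
  have he0 : 0 < e₁ := Nat.pos_of_ne_zero fun h0 => by rw [h0, mul_zero] at he₁; omega
  set LA := Nat.lcm (p₁ + 1) (p₂ + 1) with hLA
  set LB := Nat.lcm (p₁ * (p₁ - 1)) (p₂ * (p₂ - 1)) with hLB
  set GA := Nat.gcd (p₁ + 1) (p₂ + 1) with hGA
  set GB := Nat.gcd (p₁ * (p₁ - 1)) (p₂ * (p₂ - 1)) with hGB
  have h2 : 2 ≤ GA := Nat.le_of_dvd (Nat.gcd_pos_of_pos_left _ (by omega)) (Nat.dvd_gcd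
    (hp₁.odd_of_ne_two (by omega)).add_one.two_dvd (hp₂.odd_of_ne_two (by omega)).add_one.two_dvd)
  have he' : e₁ ≤ GB := Nat.le_of_dvd
    (Nat.gcd_pos_of_pos_left _ (Nat.mul_pos (by omega) (by omega)))
    (Nat.dvd_gcd (dvd_mul_of_dvd_right ⟨d₁, by rw [he₁]; ring⟩ _)
      (dvd_mul_of_dvd_right ⟨d₂, by rw [he₂]; ring⟩ _))
  have hA : GA * LA = (p₁ + 1) * (p₂ + 1) := Nat.gcd_mul_lcm _ _
  have hB : GB * LB = p₁ * (p₁ - 1) * (p₂ * (p₂ - 1)) := Nat.gcd_mul_lcm _ _
  have hale : a ≤ LA := Nat.le_of_dvd (Nat.lcm_pos (by omega) (by omega)) ha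
  have hble : b ≤ LB := Nat.le_of_dvd
    (Nat.lcm_pos (Nat.mul_pos (by omega) (by omega)) (Nat.mul_pos (by omega) (by omega))) hb
  have hprod : (GA * LA) * (GB * LB) = g * e₁ := by
    rw [hA, hB, hg₁, he₂]
    ring
  have hg0 : 0 < g * e₁ := Nat.mul_pos (by rw [hg₁, he₁]; positivity) he0
  have : g * e₁ * 2 ≤ g * e₁ := by
    calc g * e₁ * 2 ≤ a * b * GB * GA :=
          Nat.mul_le_mul (Nat.mul_le_mul hab he') h2
      _ ≤ LA * LB * GB * GA := Nat.mul_le_mul_right _ (Nat.mul_le_mul_right _
          (Nat.mul_le_mul hale hble))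
      _ = g * e₁ := by rw [← hprod]; ring
  omega

universe u

theorem main (n : ℕ) : ∀ (G : Type u) [Group G] [Finite G] (A B : Subgroup G),
    Nat.card G = n → IsCyclic A → IsZGroup B → (∀ g : G, ∃ a ∈ A, ∃ b ∈ B, g = a * b) →
      ¬ Group.IsSolvable G → TrivialRadical G → ∃ p, IsPGLTwo A B p := by
  induction n using Nat.strong_induction_on with
  | _ n ih =>
  intro G _ _ A B hn hA hB hAB hns hG
  classical
  have hBtop : B ≠ ⊤ := by
    rintro rfl
    exact hns (Group.isSolvable_of_surjective (f := (⊤ : Subgroup G).subtype)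
      (fun g => ⟨⟨g, trivial⟩, rfl⟩))
  obtain ⟨M, hM, hBM⟩ := (eq_top_or_exists_le_coatom B).resolve_left hBtop
  set K := M.normalCore with hK
  have hKM : K ≤ M := M.normalCore_le
  have hAc : ∀ u ∈ A, ∀ v ∈ A, u * v = v * u := fun u hu v hv => by
    haveI := hA
    letI := IsCyclic.commGroup (α := A)
    exact congrArg Subtype.val (mul_comm (⟨u, hu⟩ : A) ⟨v, hv⟩)
  have hAM : A ⊓ M ≤ K := by
    rintro a ⟨ha, haM⟩ g
    obtain ⟨a', ha', b, hb, hg⟩ := hAB g⁻¹
    have : g * a * g⁻¹ = b⁻¹ * a * b := by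
      rw [hg, show g = b⁻¹ * a'⁻¹ by rw [← mul_inv_rev, ← hg, inv_inv],
        show b⁻¹ * a'⁻¹ * a * (a' * b) = b⁻¹ * a'⁻¹ * (a * a') * b by group, hAc a ha a' ha']
      group
    rw [this]
    exact M.mul_mem (M.mul_mem (M.inv_mem (hBM hb)) haM) (hBM hb)
  have hMAB : ∀ m ∈ M, ∃ a ∈ A ⊓ M, ∃ b ∈ B, m = a * b := by
    intro m hm
    obtain ⟨a, ha, b, hb, rfl⟩ := hAB m
    refine ⟨a, ⟨ha, ?_⟩, b, hb, rfl⟩
    have := M.mul_mem hm (M.inv_mem (hBM hb))
    rwa [mul_inv_cancel_right] at this
  let α : G ⧸ M := ((1 : G) : G ⧸ M)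
  have hstab : stabilizer G α = M := stabilizer_quotient M
  have htrans : ∀ γ : G ⧸ M, ∃ a ∈ A, a • α = γ := by
    intro γ
    induction γ using QuotientGroup.induction_on with
    | _ g =>
      obtain ⟨a, ha, b, hb, rfl⟩ := hAB g
      refine ⟨a, ha, ?_⟩
      show ((a * 1 : G) : G ⧸ M) = ((a * b : G) : G ⧸ M)
      rw [mul_one, QuotientGroup.eq, inv_mul_cancel_left]
      exact hBM hb
  by_cases hK0 : K = ⊥
  · -- the primitive case
    haveI : FaithfulSMul G (G ⧸ M) := by
      refine ⟨fun {g₁ g₂} hgg => ?_⟩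
      have : g₂⁻¹ * g₁ ∈ K := by
        rw [hK, Subgroup.normalCore_eq_ker, MonoidHom.mem_ker]
        refine Equiv.ext fun γ => ?_
        show (g₂⁻¹ * g₁) • γ = γ
        rw [mul_smul, hgg, inv_smul_smul]
      rw [hK0, Subgroup.mem_bot, inv_mul_eq_one] at this
      exact this.symm
    have hMB : M = B := by
      refine le_antisymm (fun m hm => ?_) hBM
      obtain ⟨a, ha, b, hb, rfl⟩ := hMAB m hm
      have := hAM ha
      rw [hK0, Subgroup.mem_bot] at this
      rwa [this, one_mul]
    haveI : Nontrivial (G ⧸ M) :=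
      Finite.one_lt_card_iff_nontrivial.mp (by
        rw [← Subgroup.index_eq_card]
        exact Subgroup.one_lt_index_of_ne_top hM.1)
    have hb : CyclicPrimitive A α :=
      { cyc := hA, trans := htrans
        zgrp := by rw [hstab, hMB]; exact hB
        nsolv := hns
        prim := (isCoatom_stabilizer_iff_preprimitive (G := G) α).mp (by rw [hstab]; exact hM) }
    have hN : NormalTop A := by
      intro L hL hAL hLtop
      haveI := hL
      have hLns : ¬ Group.IsSolvable L := fun hs => by
        haveI := hs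
        haveI := isSolvable_of_factor (QuotientGroup.mk' L) (QuotientGroup.mk'_surjective L) hB hAB
          (fun a ha => (QuotientGroup.eq_one_iff a).mpr (hAL ha))
        exact hns ((Group.isSolvable_iff_subgroup_quotient L).mpr ⟨inferInstance, inferInstance⟩)
      have hlt : Nat.card L < n := hn ▸ (Subgroup.card_le_card_group L).lt_of_ne
        (fun he => hLtop (Subgroup.eq_top_of_card_eq _ he))
      have hA' : IsCyclic (A.subgroupOf L) :=
        isCyclic_of_surjective _ (Subgroup.subgroupOfEquivOfLe hAL).symm.surjective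
      have hB' : IsZGroup (B.subgroupOf L) := IsZGroup.of_injective (G' := B)
        (f := (L.subtype.comp (B.subgroupOf L).subtype).codRestrict B fun u => u.2)
        (fun u v huv => Subtype.ext (Subtype.ext (congrArg Subtype.val huv :)))
      obtain ⟨p, hp⟩ := ih _ hlt L (A.subgroupOf L) (B.subgroupOf L) rfl hA' hB'
        (fun g => by
          obtain ⟨a, ha, b, hb, hg⟩ := hAB g
          refine ⟨⟨a, hAL ha⟩, ha, ⟨b, ?_⟩, hb, Subtype.ext hg⟩
          have := L.mul_mem (L.inv_mem (hAL ha)) g.2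
          rwa [hg, inv_mul_cancel_left] at this)
        hLns (trivialRadical_of_normal hG L)
      refine ⟨p, hp.prime, hp.prime.odd_of_ne_two (by have := hp.three_lt; omega), ?_,
        hp.card_G ▸ dvd_mul_of_dvd_left (dvd_mul_left p _) _⟩
      rw [← Nat.card_congr (Subgroup.subgroupOfEquivOfLe hAL).toEquiv]
      exact hp.card_A
    obtain ⟨p, hp⟩ := hb.isPGLTwo hN
    rw [hstab, hMB] at hp
    exact ⟨p, hp⟩
  · -- otherwise there is a contradiction
    exfalso
    haveI : K.Normal := M.normalCore_normal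
    have hKns : ¬ Group.IsSolvable K := fun hs => hK0 (hG K inferInstance hs)
    set C := Subgroup.centralizer (K : Set G) with hC
    haveI hCn : C.Normal := Subgroup.normal_centralizer
    have hCK : C ⊓ K = ⊥ := by
      refine hG _ inferInstance (Group.isSolvable_of_comm fun u v => Subtype.ext ?_)
      exact (Subgroup.mem_centralizer_iff.mp u.2.1 v v.2.2).symm
    have hMns : ¬ Group.IsSolvable M := fun hs => hKns (by
      haveI := hs
      exact Group.isSolvable_of_isSolvable_injective (Subgroup.inclusion_injective hKM))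
    set R := solvRadical M with hR
    have hRs : Group.IsSolvable R := isSolvable_solvRadical
    have hA₁ : IsCyclic (A.subgroupOf M) := by
      haveI : IsCyclic (A ⊓ M : Subgroup G) := Subgroup.isCyclic_of_le inf_le_left
      exact isCyclic_of_injective
        ((M.subtype.comp (A.subgroupOf M).subtype).codRestrict (A ⊓ M) fun u => ⟨u.2, u.1.2⟩)
        (fun u v huv => Subtype.ext (Subtype.ext (congrArg Subtype.val huv :)))
    have hB₁ : IsZGroup (B.subgroupOf M) := IsZGroup.of_injective (G' := B)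
      (f := (M.subtype.comp (B.subgroupOf M).subtype).codRestrict B fun u => u.2)
      (fun u v huv => Subtype.ext (Subtype.ext (congrArg Subtype.val huv :)))
    have hAB₁ : ∀ g : M, ∃ a ∈ A.subgroupOf M, ∃ b ∈ B.subgroupOf M, g = a * b := fun g => by
      obtain ⟨a, ha, b, hb, hg⟩ := hMAB g g.2
      exact ⟨⟨a, ha.2⟩, ha.1, ⟨b, hBM hb⟩, hb, Subtype.ext hg⟩
    have hMlt : Nat.card M < Nat.card G := (Subgroup.card_le_card_group M).lt_of_ne
      (fun he => hM.1 (Subgroup.eq_top_of_card_eq _ he))
    have hRmax : ∀ N : Subgroup M, N.Normal → Group.IsSolvable N → N ≤ R := fun N hN hs => by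
      haveI := hN
      exact le_solvRadical hs
    obtain ⟨hA₁', hB₁', hAB₁'⟩ := factor_map (QuotientGroup.mk' R) (QuotientGroup.mk'_surjective R)
      hA₁ hB₁ hAB₁
    obtain ⟨p, hp⟩ := ih _ (lt_of_le_of_lt (Nat.card_le_card_of_surjective _
        (QuotientGroup.mk'_surjective R)) (hn ▸ hMlt)) (M ⧸ R) _ _ rfl hA₁' hB₁' hAB₁'
      (not_isSolvable_quotient R hRs hMns) (trivialRadical_quotient R hRs hRmax)
    -- `K` embeds into `M / R`
    let f : K →* M ⧸ R := (QuotientGroup.mk' R).comp (Subgroup.inclusion hKM)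
    haveI : (K.subgroupOf M).Normal := inferInstance
    haveI hfn : f.range.Normal := by
      have : f.range = (K.subgroupOf M).map (QuotientGroup.mk' R) := by
        rw [MonoidHom.range_comp, Subgroup.inclusion_range]
      rw [this]
      exact Subgroup.Normal.map inferInstance _ (QuotientGroup.mk'_surjective R)
    have hf : Function.Injective f := by
      rw [← MonoidHom.ker_eq_bot_iff]
      refine trivialRadical_of_normal hG K _ inferInstance ?_
      haveI := hRs
      exact Group.isSolvable_of_isSolvable_injective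
        (f := ((Subgroup.inclusion hKM).comp f.ker.subtype).codRestrict R fun u =>
          (QuotientGroup.eq_one_iff _).mp u.2)
        (fun u v huv => Subtype.ext (Subgroup.inclusion_injective hKM (congrArg Subtype.val huv :)))
    have hbound := exists_bound hp K hK0 hG f hf
    rw [← hC] at hbound
    have hCR : C.subgroupOf M ≤ R := by
      refine hRmax _ inferInstance ?_
      haveI : (K.subgroupOf M).Normal := inferInstance
      haveI : Group.IsSolvable (M ⧸ K.subgroupOf M) :=
        isSolvable_of_factor (QuotientGroup.mk' (K.subgroupOf M))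
          (QuotientGroup.mk'_surjective _) hB₁ hAB₁
          (fun a ha => (QuotientGroup.eq_one_iff a).mpr (hAM ⟨ha, a.2⟩))
      refine Group.isSolvable_of_isSolvable_injective
        (f := (QuotientGroup.mk' (K.subgroupOf M)).comp (C.subgroupOf M).subtype) ?_
      rw [← MonoidHom.ker_eq_bot_iff, Subgroup.eq_bot_iff_forall]
      intro u hu
      have huK : ((u : M) : G) ∈ K := (QuotientGroup.eq_one_iff (u : M)).mp hu
      have : ((u : M) : G) ∈ C ⊓ K := ⟨u.2, huK⟩
      rw [hCK, Subgroup.mem_bot] at this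
      exact Subtype.ext (Subtype.ext this)
    have hRindex : R.index = (p + 1) * p * (p - 1) := by rw [Subgroup.index_eq_card]; exact hp.card_G
    have hC0 : C ≠ ⊥ := by
      intro he
      rw [he, Subgroup.index_bot, ← hRindex] at hbound
      have := Nat.le_of_dvd Nat.card_pos R.index_dvd_card
      omega
    let ψ : M →* G ⧸ C := (QuotientGroup.mk' C).comp M.subtype
    have hψk : ψ.ker = C.subgroupOf M := by
      ext u
      exact (QuotientGroup.eq_one_iff (u : G)).trans Subgroup.mem_subgroupOf.symm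
    have h1 : R.index ≤ (C.subgroupOf M).index :=
      Nat.le_of_dvd (Nat.pos_of_ne_zero Subgroup.index_ne_zero_of_finite)
        (Subgroup.index_dvd_of_le hCR)
    have h2 : (C.subgroupOf M).index = Nat.card ψ.range := by rw [← hψk, Subgroup.index_ker]
    have h3 : Nat.card ψ.range ≤ C.index :=
      (Subgroup.card_le_card_group ψ.range).trans (Subgroup.index_eq_card C).ge
    have hsurj : Function.Surjective ψ := MonoidHom.range_eq_top.mp
      (Subgroup.eq_top_of_card_eq _ (by rw [← Subgroup.index_eq_card]; omega))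
    have hCR' : C.subgroupOf M = R := by
      refine Subgroup.eq_of_le_of_card_ge hCR ?_
      have e1 := (C.subgroupOf M).card_mul_index
      have e2 := R.card_mul_index
      have : (C.subgroupOf M).index = R.index := by omega
      rw [this, ← e2] at e1
      exact (Nat.eq_of_mul_eq_mul_right (Nat.pos_of_ne_zero Subgroup.index_ne_zero_of_finite) e1).ge
    have hCindex : C.index = (p + 1) * p * (p - 1) := by omega
    let e : M ⧸ R ≃* G ⧸ C :=
      (QuotientGroup.quotientMulEquivOfEq (hCR'.symm.trans hψk.symm)).trans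
        (QuotientGroup.quotientKerEquivOfSurjective ψ hsurj)
    have hQ₁ns : ¬ Group.IsSolvable (G ⧸ C) := fun hs => by
      haveI := hs
      exact not_isSolvable_quotient R hRs hMns
        (Group.isSolvable_of_isSolvable_injective (f := e.toMonoidHom) e.injective)
    have hQ₁rad : TrivialRadical (G ⧸ C) := fun N hN hs => by
      haveI := hs
      haveI := hN
      have h := trivialRadical_quotient R hRs hRmax (N.comap e.toMonoidHom) inferInstance
        (Group.isSolvable_of_isSolvable_injective (f := e.toMonoidHom.subgroupComap N)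
          (fun u v huv => Subtype.ext (e.injective (congrArg Subtype.val huv :))))
      rw [Subgroup.eq_bot_iff_forall] at h ⊢
      intro q hq
      have := h (e.symm q) (by
        show e (e.symm q) ∈ N
        rwa [e.apply_symm_apply])
      rw [← e.apply_symm_apply q, this, map_one]
    obtain ⟨hA₂, hB₂, hAB₂⟩ := factor_map (QuotientGroup.mk' C) (QuotientGroup.mk'_surjective C)
      hA hB hAB
    obtain ⟨q, hq⟩ := ih _ (by
        rw [← hn, Subgroup.card_eq_card_quotient_mul_card_subgroup C]
        exact lt_mul_of_one_lt_right Nat.card_pos (C.one_lt_card_iff_ne_bot.mpr hC0))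
      (G ⧸ C) _ _ rfl hA₂ hB₂ hAB₂ hQ₁ns hQ₁rad
    -- the quotient by `K`
    have hCns : ¬ Group.IsSolvable C := fun hs => hC0 (hG C inferInstance hs)
    have hinj : Function.Injective ((QuotientGroup.mk' K).comp C.subtype) := by
      rw [← MonoidHom.ker_eq_bot_iff, Subgroup.eq_bot_iff_forall]
      intro u hu
      have : (u : G) ∈ C ⊓ K := ⟨u.2, (QuotientGroup.eq_one_iff (u : G)).mp hu⟩
      rw [hCK, Subgroup.mem_bot] at this
      exact Subtype.ext this
    have hQ₂ns : ¬ Group.IsSolvable (G ⧸ K) := fun hs => by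
      haveI := hs
      exact hCns (Group.isSolvable_of_isSolvable_injective hinj)
    have hMK : ∀ m ∈ M, ∃ b ∈ B, (m : G ⧸ K) = (b : G ⧸ K) := fun m hm => by
      obtain ⟨a, ha, b, hb, rfl⟩ := hMAB m hm
      refine ⟨b, hb, ?_⟩
      rw [QuotientGroup.mk_mul, (QuotientGroup.eq_one_iff a).mpr (hAM ha), one_mul]
    have hQ₂rad : TrivialRadical (G ⧸ K) := fun N hN hs => by
      haveI := hN
      by_contra hne
      set N' := N.comap (QuotientGroup.mk' K)
      have hKN : K ≤ N' := fun k hk => by
        show (QuotientGroup.mk' K) k ∈ N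
        rw [show (QuotientGroup.mk' K) k = 1 from (QuotientGroup.eq_one_iff k).mpr hk]
        exact N.one_mem
      have hN'M : ¬ N' ≤ M := by
        intro hle
        have : N' ≤ K := Subgroup.normal_le_normalCore.mpr hle
        refine hne ((Subgroup.eq_bot_iff_forall _).mpr fun x hx => ?_)
        obtain ⟨g, rfl⟩ := QuotientGroup.mk'_surjective K x
        exact (QuotientGroup.eq_one_iff g).mpr (this hx)
      have hsup : M ⊔ N' = ⊤ := hM.2 _ (lt_of_le_of_ne le_sup_left
        (fun he => hN'M (he ▸ le_sup_right)))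
      haveI := hs
      haveI : Group.IsSolvable ((G ⧸ K) ⧸ N) := by
        haveI := hB
        refine Group.isSolvable_of_surjective
          (f := ((QuotientGroup.mk' N).comp (QuotientGroup.mk' K)).comp B.subtype) fun x => ?_
        obtain ⟨y, rfl⟩ := QuotientGroup.mk'_surjective N x
        obtain ⟨g, rfl⟩ := QuotientGroup.mk'_surjective K y
        have hg : g ∈ (M : Set G) * (N' : Set G) := by
          rw [← Subgroup.mul_normal, hsup]; trivial
        obtain ⟨m, hm, w, hw, rfl⟩ := hg
        obtain ⟨b, hb, hmb⟩ := hMK m hm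
        refine ⟨⟨b, hb⟩, ?_⟩
        show QuotientGroup.mk' N (b : G ⧸ K) = QuotientGroup.mk' N ((m * w : G) : G ⧸ K)
        rw [QuotientGroup.mk_mul, ← hmb, map_mul,
          show QuotientGroup.mk' N (w : G ⧸ K) = 1 from (QuotientGroup.eq_one_iff _).mpr hw,
          mul_one]
      exact hQ₂ns ((Group.isSolvable_iff_subgroup_quotient N).mpr ⟨hs, inferInstance⟩)
    obtain ⟨hA₃, hB₃, hAB₃⟩ := factor_map (QuotientGroup.mk' K) (QuotientGroup.mk'_surjective K)
      hA hB hAB
    obtain ⟨r, hr⟩ := ih _ (by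
        rw [← hn, Subgroup.card_eq_card_quotient_mul_card_subgroup K]
        exact lt_mul_of_one_lt_right Nat.card_pos (K.one_lt_card_iff_ne_bot.mpr hK0))
      (G ⧸ K) _ _ rfl hA₃ hB₃ hAB₃ hQ₂ns hQ₂rad
    -- embeddings of `K` and `C`
    have hKinj : Function.Injective ((QuotientGroup.mk' C).comp K.subtype) := by
      rw [← MonoidHom.ker_eq_bot_iff, Subgroup.eq_bot_iff_forall]
      intro u hu
      have : (u : G) ∈ C ⊓ K := ⟨(QuotientGroup.eq_one_iff (u : G)).mp hu, u.2⟩
      rw [hCK, Subgroup.mem_bot] at this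
      exact Subtype.ext this
    have key : ∀ (L D : Subgroup G) [L.Normal] [D.Normal] {s : ℕ} {A' B' : Subgroup (G ⧸ D)},
        IsPGLTwo A' B' s → L ≠ ⊥ →
        Function.Injective ((QuotientGroup.mk' D).comp L.subtype) →
        (s + 1) * s ∣ Nat.card L ∧ Nat.card L ∣ (s + 1) * s * (s - 1) := by
      intro L D _ _ s A' B' hs hL hi
      have hr : ((QuotientGroup.mk' D).comp L.subtype).range = L.map (QuotientGroup.mk' D) := by
        rw [MonoidHom.range_comp, Subgroup.range_subtype]
      have hc : Nat.card L = Nat.card (L.map (QuotientGroup.mk' D)) :=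
        hr ▸ Nat.card_congr (MonoidHom.ofInjective hi).toEquiv
      have hn : (L.map (QuotientGroup.mk' D)).Normal :=
        Subgroup.Normal.map inferInstance _ (QuotientGroup.mk'_surjective D)
      refine ⟨hc ▸ hs.dvd_normal _ hn (fun he => hL (Subgroup.eq_bot_of_card_eq _ ?_)),
        hs.card_G ▸ hc ▸ Subgroup.card_subgroup_dvd_card _⟩
      rw [hc, he, Subgroup.card_bot]
    obtain ⟨hk1, hk2⟩ := key K C hq hK0 hKinj
    obtain ⟨hc1, hc2⟩ := key C K hr hC0 hinj
    have hpow : ∀ (u : G) (L₁ L₂ : ℕ), (u : G ⧸ C) ^ L₁ = 1 → (u : G ⧸ K) ^ L₂ = 1 →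
        u ^ Nat.lcm L₁ L₂ = 1 := by
      intro u L₁ L₂ e1 e2
      have : u ^ Nat.lcm L₁ L₂ ∈ C ⊓ K := by
        refine ⟨(QuotientGroup.eq_one_iff _).mp ?_, (QuotientGroup.eq_one_iff _).mp ?_⟩
        · obtain ⟨j, hj⟩ := Nat.dvd_lcm_left L₁ L₂
          rw [QuotientGroup.mk_pow, hj, pow_mul, e1, one_pow]
        · obtain ⟨j, hj⟩ := Nat.dvd_lcm_right L₁ L₂
          rw [QuotientGroup.mk_pow, hj, pow_mul, e2, one_pow]
      rwa [hCK, Subgroup.mem_bot] at this
    have himage : ∀ (S : Subgroup G) (D : Subgroup G) [D.Normal] (u : G), u ∈ S →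
        (u : G ⧸ D) ^ Nat.card (S.map (QuotientGroup.mk' D)) = 1 := fun S D _ u hu =>
      congrArg Subtype.val (pow_card_eq_one'
        (x := (⟨(u : G ⧸ D), u, hu, rfl⟩ : S.map (QuotientGroup.mk' D))))
    haveI := hA
    haveI := hB
    refine arith_contra hq.prime hq.three_lt hr.prime hr.three_lt hc1 hk1 hc2 hk2
      (a := Nat.card A) (b := Nat.card B) ?_ ?_ ?_ ?_ (card_le_mul hAB)
    · rw [Subgroup.card_eq_card_quotient_mul_card_subgroup C, hq.card_G]
    · rw [Subgroup.card_eq_card_quotient_mul_card_subgroup K, hr.card_G]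
    · refine card_dvd_of_exponent A fun u hu => hpow u _ _ ?_ ?_
      · rw [← hq.card_A]; exact himage A C u hu
      · rw [← hr.card_A]; exact himage A K u hu
    · refine card_dvd_of_exponent B fun u hu => hpow u _ _ ?_ ?_
      · rw [← hq.card_B]; exact himage B C u hu
      · rw [← hr.card_B]; exact himage B K u hu

end CfsgLib.CyclicZ
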