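import Cfsg.Agent.CyclicZ.Primitive

/-!
# The point stabiliser of a primitive group with a regular cyclic subgroup

Given that proper normal subgroups over the cyclic subgroup `A` are of the expected shape
(`NormalTop`), the degree is even, the commutator subgroup `F` of the point stabiliser is cyclic
and regular on the other points, and a two-point stabiliser is generated by an odd permutation.
-/

set_option autoImplicit false
set_option linter.style.haveILetI false
set_option linter.unusedSectionVars false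

open MulAction

namespace CfsgLib.CyclicZ

variable {G : Type*} [Group G] [Finite G] {Ω : Type*} [MulAction G Ω] [FaithfulSMul G Ω]
  [Finite Ω]

/-- What the induction hypothesis says about proper normal subgroups containing `A`. -/
def NormalTop (A : Subgroup G) : Prop :=
  ∀ K : Subgroup G, K.Normal → A ≤ K → K ≠ ⊤ →
    ∃ p : ℕ, p.Prime ∧ Odd p ∧ Nat.card A = p + 1 ∧ p ∣ Nat.card K

/-- The sign of the permutation induced on `Ω`. -/
noncomputable def permSign (G Ω : Type*) [Group G] [MulAction G Ω] [Finite Ω] : G →* ℤˣ :=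
  letI := Fintype.ofFinite Ω
  letI := Classical.decEq Ω
  Equiv.Perm.sign.comp (MulAction.toPermHom G Ω)

omit [Finite G] [FaithfulSMul G Ω] in
theorem permSign_gen {H : Subgroup G} {α : Ω} {z : G} (hz : z • α ≠ α)
    (hgen : ∀ g ∈ H, g ∈ Subgroup.zpowers z) (htr : ∀ γ : Ω, ∃ g ∈ H, g • α = γ) :
    permSign G Ω z = -(-1) ^ Nat.card Ω := by
  letI := Fintype.ofFinite Ω
  letI := Classical.decEq Ω
  rw [Nat.card_eq_fintype_card]
  refine sign_of_pretransitive_zpowers z α hz fun γ => ?_
  obtain ⟨g, hg, rfl⟩ := htr γ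
  obtain ⟨k, rfl⟩ := hgen g hg
  exact ⟨k, rfl⟩

namespace CyclicPrimitive

variable {A : Subgroup G} {α : Ω}

theorem card_compl (_h : CyclicPrimitive A α) :
    Nat.card ({α}ᶜ : Set Ω) = Nat.card Ω - 1 := by
  classical
  rw [Nat.card_coe_set_eq, Set.ncard_compl, Set.ncard_singleton]

theorem relIndex_stabilizer (h : CyclicPrimitive A α) {β : Ω} (hβ : β ≠ α) :
    (stabilizer (stabilizer G α) β).index = Nat.card Ω - 1 := by
  rw [index_stabilizer, ← h.card_compl, Nat.card_coe_set_eq]
  congr 1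
  ext γ
  rw [mem_orbit_iff, Set.mem_compl_iff, Set.mem_singleton_iff]
  constructor
  · rintro ⟨⟨b, hb⟩, rfl⟩ he
    have : b • β = α := he
    exact hβ (smul_left_cancel b (this.trans (mem_stabilizer_iff.mp hb).symm))
  · intro hγ
    obtain ⟨b, hb, rfl⟩ := h.stabilizer_transitive hβ hγ
    exact ⟨⟨b, hb⟩, rfl⟩

theorem exists_sylow (h : CyclicPrimitive A α) {r : ℕ} [Fact r.Prime] (hr : ¬ r ∣ Nat.card Ω) :
    ∃ P : Sylow r G, (P : Subgroup G) ≤ stabilizer G α ∧ IsCyclic P := by
  haveI := h.zgrp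
  haveI : Nonempty Ω := ⟨α⟩
  let P₀ : Sylow r (stabilizer G α) := default
  let P₁ : Subgroup G := (P₀ : Subgroup (stabilizer G α)).map (stabilizer G α).subtype
  have e : (P₀ : Subgroup (stabilizer G α)) ≃* P₁ :=
    Subgroup.equivMapOfInjective _ _ (stabilizer G α).subtype_injective
  have hcard : Nat.card P₁ = r ^ (Nat.card G).factorization r := by
    rw [← Nat.card_congr e.toEquiv, Sylow.card_eq_multiplicity, h.card_G,
      Nat.factorization_mul Nat.card_pos.ne' Nat.card_pos.ne', Finsupp.add_apply,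
      Nat.factorization_eq_zero_of_not_dvd hr, zero_add]
  refine ⟨Sylow.ofCard P₁ hcard, Subgroup.map_subtype_le _, ?_⟩
  haveI : IsCyclic (P₀ : Subgroup (stabilizer G α)) := IsZGroup.isZGroup r Fact.out P₀
  exact isCyclic_of_surjective e e.surjective

theorem exists_normal_of_central (h : CyclicPrimitive A α) {r : ℕ} [hr' : Fact r.Prime]
    (hr : ¬ r ∣ Nat.card Ω) (P : Sylow r G)
    (hP : Subgroup.normalizer (P : Set G) ≤ Subgroup.centralizer (P : Set G))
    (hrG : r ∣ Nat.card G) :
    ∃ K : Subgroup G, K.Normal ∧ A ≤ K ∧ K ≠ ⊤ ∧ ¬ r ∣ Nat.card K := by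
  refine ⟨(MonoidHom.transferSylow P hP).ker, inferInstance, fun a ha => ?_, fun htop => ?_,
    MonoidHom.not_dvd_card_ker_transferSylow P hP⟩
  · rw [MonoidHom.mem_ker]
    obtain ⟨k, hk⟩ := P.2.exists_card_eq
    have h1 : orderOf (MonoidHom.transferSylow P hP a) ∣ Nat.card Ω := by
      refine (orderOf_map_dvd _ a).trans ?_
      rw [← h.card_A, ← Subgroup.orderOf_mk a ha]
      exact orderOf_dvd_natCard _
    have h2 : orderOf (MonoidHom.transferSylow P hP a) ∣ r ^ k := hk ▸ orderOf_dvd_natCard _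
    have hcop : (Nat.card Ω).Coprime (r ^ k) :=
      Nat.Coprime.pow_right _ ((hr'.out.coprime_iff_not_dvd.mpr hr).symm)
    exact orderOf_eq_one_iff.mp (Nat.eq_one_of_dvd_coprimes hcop h1 h2)
  · have := MonoidHom.not_dvd_card_ker_transferSylow P hP
    rw [htop, Subgroup.card_top] at this
    exact this hrG

theorem even_card (h : CyclicPrimitive A α) (hN : NormalTop A) : Even (Nat.card Ω) := by
  by_contra hodd
  haveI := Fact.mk Nat.prime_two
  haveI := h.isPretransitive
  have hn := h.four_lt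
  have hr : ¬ 2 ∣ Nat.card Ω := fun hd => hodd (even_iff_two_dvd.mpr hd)
  obtain ⟨P, hPB, hPc⟩ := h.exists_sylow hr
  obtain ⟨β, hβ⟩ : ∃ β : Ω, β ≠ α := by
    haveI := Finite.one_lt_card_iff_nontrivial.mp (show 1 < Nat.card Ω by omega)
    exact exists_ne α
  have h2B : 2 ∣ Nat.card (stabilizer G α) := by
    refine dvd_trans ?_ (Subgroup.index_dvd_card (stabilizer (stabilizer G α) β))
    rw [h.relIndex_stabilizer hβ]
    omega
  have h2G : 2 ∣ Nat.card G := h2B.trans (Subgroup.card_subgroup_dvd_card _)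
  have hmin : (Nat.card G).minFac = 2 :=
    (Nat.minFac_eq_two_iff _).mpr h2G
  obtain ⟨K, hK, hAK, hKtop, -⟩ := h.exists_normal_of_central hr P
    (IsCyclic.normalizer_le_centralizer hmin hPc) h2G
  obtain ⟨p, -, hp, hAp, -⟩ := hN K hK hAK hKtop
  rw [h.card_A] at hAp
  exact hodd (hAp ▸ hp.add_one)

theorem sylow_le_commutator (h : CyclicPrimitive A α) (hN : NormalTop A) {r : ℕ}
    [hr' : Fact r.Prime] (hrm : r ∣ Nat.card Ω - 1) :
    ¬ r ∣ (commutator (stabilizer G α)).index := by
  have hn := h.four_lt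
  have hrn : ¬ r ∣ Nat.card Ω := fun hd => hr'.out.one_lt.ne' (Nat.dvd_one.mp (by
    have := Nat.dvd_sub hd hrm
    rwa [Nat.sub_sub_self (by omega)] at this))
  obtain ⟨P, hPB, hPc⟩ := h.exists_sylow hrn
  haveI := h.isPretransitive
  have hfix : ∀ g ∈ Subgroup.normalizer ((P : Subgroup G) : Set G), g ∈ stabilizer G α := by
    intro g hg
    by_contra hne
    have hgα : g • α ≠ α := hne
    have hPγ : (P : Subgroup G).subgroupOf (stabilizer G α) ≤
        stabilizer (stabilizer G α) (g • α) := by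
      rintro ⟨s, hs⟩ hsP
      rw [mem_stabilizer_iff]
      show s • g • α = g • α
      have hmem : g⁻¹ * s * g ∈ (P : Subgroup G) :=
        (Subgroup.mem_normalizer_iff''.mp hg s).mp (Subgroup.mem_subgroupOf.mp hsP)
      have := mem_stabilizer_iff.mp (hPB hmem)
      rwa [mul_smul, mul_smul, inv_smul_eq_iff] at this
    apply P.not_dvd_index
    rw [← Subgroup.relIndex_mul_index hPB]
    refine dvd_mul_of_dvd_left (hrm.trans ?_) _
    rw [← h.relIndex_stabilizer hgα]
    exact Subgroup.index_dvd_of_le hPγ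
  haveI : IsCyclic (P.subtype hPB) :=
    isCyclic_of_surjective _ (Subgroup.subgroupOfEquivOfLe hPB).symm.surjective
  rcases Sylow.normalizer_le_centralizer_or_le_commutator (P.subtype hPB) with hcen | hcom
  · exfalso
    have hP : Subgroup.normalizer (P : Set G) ≤ Subgroup.centralizer (P : Set G) := by
      intro g hg s hs
      have hgB := hfix g hg
      have hg' : (⟨g, hgB⟩ : stabilizer G α) ∈
          Subgroup.normalizer ((P.subtype hPB : Sylow r (stabilizer G α)) : Set (stabilizer G α)) := by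
        intro y
        exact hg (y : G)
      exact congrArg Subtype.val (hcen hg' ⟨s, hPB hs⟩ (show s ∈ (P : Subgroup G) from hs))
    have hrG : r ∣ Nat.card G := by
      obtain ⟨β, hβ⟩ : ∃ β : Ω, β ≠ α := by
        haveI := Finite.one_lt_card_iff_nontrivial.mp (show 1 < Nat.card Ω by omega)
        exact exists_ne α
      refine hrm.trans ?_
      rw [← h.relIndex_stabilizer hβ]
      exact (Subgroup.index_dvd_card _).trans (Subgroup.card_subgroup_dvd_card _)
    obtain ⟨K, hK, hAK, hKtop, hrK⟩ := h.exists_normal_of_central hrn P hP hrG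
    obtain ⟨p, hp, -, hAp, hpK⟩ := hN K hK hAK hKtop
    rw [h.card_A] at hAp
    rw [hAp, Nat.add_sub_cancel] at hrm
    exact hrK (((Nat.prime_dvd_prime_iff_eq hr'.out hp).mp hrm) ▸ hpK)
  · exact fun hd => (P.subtype hPB).not_dvd_index (hd.trans (Subgroup.index_dvd_of_le hcom))

end CyclicPrimitive

/-- The data attached to a two-point stabiliser. -/
structure Frame (A : Subgroup G) (α : Ω) (F : Subgroup G) (a x : G) : Prop
    extends CyclicPrimitive A α where
  n_even : Even (Nat.card Ω)
  a_mem : a ∈ A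
  a_sq : a * a = 1
  a_ne : a ≠ 1
  F_le : F ≤ stabilizer G α
  F_comm : IsMulCommutative F
  F_cyclic : IsCyclic F
  F_normal : ∀ b ∈ stabilizer G α, ∀ f ∈ F, b * f * b⁻¹ ∈ F
  F_trans : ∀ γ : Ω, γ ≠ α → ∃ f ∈ F, f • a • α = γ
  F_card : Nat.card F = Nat.card Ω - 1
  F_free : ∀ f ∈ F, f • a • α = a • α → f = 1
  x_fix : x • α = α
  x_fix' : x • a • α = a • α
  x_gen : ∀ g : G, g • α = α → g • a • α = a • α → g ∈ Subgroup.zpowers x
  x_sign : permSign G Ω x = -1
  x_coprime : (orderOf x).Coprime (Nat.card Ω - 1)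

theorem exists_frame {A : Subgroup G} {α : Ω} (h : CyclicPrimitive A α) (hN : NormalTop A) :
    ∃ F a x, Frame A α F a x := by
  have hn := h.four_lt
  have heven := h.even_card hN
  haveI := h.isPretransitive
  haveI := h.zgrp
  haveI := Fact.mk Nat.prime_two
  obtain ⟨⟨a, haA⟩, ha⟩ := exists_prime_orderOf_dvd_card' (G := A) 2
    (by rw [h.card_A]; exact heven.two_dvd)
  rw [Subgroup.orderOf_mk] at ha
  have ha2 : a * a = 1 := by rw [← sq, ← ha, pow_orderOf_eq_one]
  have ha1 : a ≠ 1 := by rintro rfl; simp at ha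
  set β := a • α with hβdef
  have hβ : β ≠ α := fun he => ha1 (h.free haA he)
  set B := stabilizer G α with hB
  set C : Subgroup B := commutator B with hC
  haveI hCc : IsCyclic C := IsZGroup.isCyclic_commutator B
  let F : Subgroup G := C.map B.subtype
  have eF : C ≃* F := Subgroup.equivMapOfInjective C _ B.subtype_injective
  haveI hFc : IsCyclic F := isCyclic_of_surjective eF eF.surjective
  have hcop : C.index.Coprime (Nat.card Ω - 1) := by
    rw [Nat.coprime_iff_gcd_eq_one]
    by_contra hg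
    obtain ⟨r, hr, hrd⟩ := Nat.exists_prime_and_dvd hg
    haveI := Fact.mk hr
    exact h.sylow_le_commutator hN (hrd.trans (Nat.gcd_dvd_right _ _))
      (hrd.trans (Nat.gcd_dvd_left _ _))
  have hsup : C ⊔ stabilizer B β = ⊤ := by
    refine Subgroup.index_eq_one.mp (Nat.eq_one_of_dvd_coprimes hcop
      (Subgroup.index_dvd_of_le le_sup_left) ?_)
    rw [← h.relIndex_stabilizer hβ]
    exact Subgroup.index_dvd_of_le le_sup_right
  have hFtr : ∀ γ : Ω, γ ≠ α → ∃ f ∈ F, f • β = γ := by
    intro γ hγ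
    obtain ⟨b, hb, rfl⟩ := h.stabilizer_transitive hβ hγ
    have hmem : (⟨b, hb⟩ : B) ∈ ((C ⊔ stabilizer B β : Subgroup B) : Set B) := by
      rw [hsup]; trivial
    rw [Subgroup.normal_mul] at hmem
    obtain ⟨c, hc, s, hs, hcs⟩ := hmem
    have hbcs : b = (c : G) * (s : G) := (congrArg Subtype.val hcs).symm
    refine ⟨c, ⟨c, hc, rfl⟩, ?_⟩
    rw [hbcs, mul_smul]
    exact congrArg _ (mem_stabilizer_iff.mp hs : (s : G) • β = β).symm
  have hFle : F ≤ B := Subgroup.map_subtype_le C
  letI hFcg : CommGroup F := IsCyclic.commGroup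
  have hFcomm : ∀ u ∈ F, ∀ v ∈ F, u * v = v * u := fun u hu v hv =>
    congrArg Subtype.val (mul_comm (⟨u, hu⟩ : F) ⟨v, hv⟩)
  have hFfree : ∀ f ∈ F, f • β = β → f = 1 := by
    intro f hf hfβ
    refine eq_of_smul_eq_smul (α := Ω) fun γ => ?_
    rw [one_smul]
    rcases eq_or_ne γ α with rfl | hγ
    · exact hFle hf
    · obtain ⟨k, hk, rfl⟩ := hFtr γ hγ
      rw [← mul_smul, hFcomm f hf k hk, mul_smul, hfβ]
  have hFcard : Nat.card F = Nat.card Ω - 1 := by
    rw [← h.card_compl]
    refine natCard_eq_of_bijective_smul β _ (fun f hf => ?_) hFfree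
      (fun γ hγ => hFtr γ hγ)
    intro he
    have : f • β = α := he
    exact hβ (smul_left_cancel f (this.trans (hFle hf : f • α = α).symm))
  have hFn : ∀ b ∈ B, ∀ f ∈ F, b * f * b⁻¹ ∈ F := by
    rintro b hb _ ⟨c, hc, rfl⟩
    exact ⟨⟨b, hb⟩ * c * ⟨b, hb⟩⁻¹, (inferInstance : C.Normal).conj_mem c hc _, rfl⟩
  -- the two-point stabiliser is cyclic
  set H : Subgroup G := B ⊓ stabilizer G β with hH
  have hHcomm : ∀ u v : H, u * v = v * u := by
    rintro ⟨u, hu⟩ ⟨v, hv⟩
    obtain ⟨huB, huβ⟩ := Subgroup.mem_inf.mp hu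
    obtain ⟨hvB, hvβ⟩ := Subgroup.mem_inf.mp hv
    have hc : u * v * u⁻¹ * v⁻¹ ∈ F :=
      ⟨⟨u, huB⟩ * ⟨v, hvB⟩ * ⟨u, huB⟩⁻¹ * ⟨v, hvB⟩⁻¹,
        Subgroup.commutator_mem_commutator (Subgroup.mem_top _) (Subgroup.mem_top _), rfl⟩
    have := hFfree _ hc (mem_stabilizer_iff.mp
      ((stabilizer G β).mul_mem ((stabilizer G β).mul_mem ((stabilizer G β).mul_mem huβ hvβ)
        ((stabilizer G β).inv_mem huβ)) ((stabilizer G β).inv_mem hvβ)))
    apply Subtype.ext
    show u * v = v * u
    rwa [mul_inv_eq_one, mul_inv_eq_iff_eq_mul] at this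
  haveI : IsZGroup H := IsZGroup.of_injective
    (f := Subgroup.inclusion (inf_le_left : H ≤ B)) (Subgroup.inclusion_injective _)
  haveI : IsCyclic H :=
    letI : CommGroup H := { (inferInstance : Group H) with mul_comm := hHcomm }
    IsCyclic.of_exponent_eq_card (IsZGroup.exponent_eq_card H)
  obtain ⟨⟨x, hx⟩, hxgen⟩ := IsCyclic.exists_generator (α := H)
  have hxgen' : ∀ g : G, g • α = α → g • β = β → g ∈ Subgroup.zpowers x := by
    intro g h1 h2
    obtain ⟨k, hk⟩ := Subgroup.mem_zpowers_iff.mp (hxgen ⟨g, ⟨h1, h2⟩⟩)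
    exact ⟨k, congrArg Subtype.val hk⟩
  -- coprimality
  have hxo : (orderOf x).Coprime (Nat.card Ω - 1) := by
    refine Nat.Coprime.coprime_dvd_left ?_ hcop
    let q : H →* (B ⧸ C) := (QuotientGroup.mk' C).comp (Subgroup.inclusion inf_le_left)
    have hq : Function.Injective q := by
      rw [← MonoidHom.ker_eq_bot_iff, Subgroup.eq_bot_iff_forall]
      rintro ⟨g, hg⟩ hgq
      rw [MonoidHom.mem_ker, MonoidHom.comp_apply, QuotientGroup.mk'_apply,
        QuotientGroup.eq_one_iff] at hgq
      exact Subtype.ext (hFfree g ⟨_, hgq, rfl⟩ hg.2)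
    rw [← Subgroup.orderOf_mk x hx, ← orderOf_injective q hq, Subgroup.index_eq_card]
    exact orderOf_dvd_natCard _
  have hsx : permSign G Ω x = -1 := by
    rcases Int.units_eq_one_or (permSign G Ω x) with h1 | h1
    swap
    · exact h1
    exfalso
    haveI := h.cyc
    obtain ⟨⟨z, hzA⟩, hz⟩ := IsCyclic.exists_generator (α := A)
    have hzgen : ∀ g ∈ A, g ∈ Subgroup.zpowers z := by
      intro g hg
      obtain ⟨k, hk⟩ := Subgroup.mem_zpowers_iff.mp (hz ⟨g, hg⟩)
      exact ⟨k, congrArg Subtype.val hk⟩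
    have hzmove : z • α ≠ α := by
      intro he
      have hz1 := h.free hzA he
      subst hz1
      have := hzgen a haA
      rw [Subgroup.zpowers_one_eq_bot, Subgroup.mem_bot] at this
      exact ha1 this
    have hFodd : Odd (Nat.card F) := by
      rw [hFcard]
      exact Nat.Even.sub_odd (by omega) heven odd_one
    have hsz := permSign_gen hzmove hzgen h.trans
    rw [heven.neg_one_pow] at hsz
    have key : ∀ g : G, g • α = α → permSign G Ω g = 1 := by
      intro g hg
      have hgβ : g • β ≠ α := fun he => hβ (smul_left_cancel g (he.trans hg.symm))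
      obtain ⟨f, hf, hfg⟩ := hFtr _ hgβ
      have hfα : f • α = α := hFle hf
      obtain ⟨k, hk⟩ := Subgroup.mem_zpowers_iff.mp (hxgen' (f⁻¹ * g)
        (by rw [mul_smul, hg, inv_smul_eq_iff, hfα]) (by rw [mul_smul, ← hfg, inv_smul_smul]))
      have : g = f * x ^ k := by rw [hk, mul_inv_cancel_left]
      rw [this, map_mul, map_zpow, h1, one_zpow, map_eq_one_of_odd_card _ hFodd hf, one_mul]
    -- elements of kernel are transitive
    have htr : ∀ γ : Ω, ∃ g : G, permSign G Ω g = 1 ∧ g • α = γ := by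
      haveI := h.isPretransitive
      obtain ⟨γ, hγ⟩ : ∃ γ : Ω, γ ≠ α ∧ γ ≠ β := by
        classical
        cases nonempty_fintype Ω
        by_contra hcon
        push Not at hcon
        have : (Finset.univ : Finset Ω) ⊆ {α, β} := fun γ _ => by
          simp only [Finset.mem_insert, Finset.mem_singleton]
          exact or_iff_not_imp_left.mpr (hcon γ)
        have h1 := Finset.card_le_card this
        have h2 : ({α, β} : Finset Ω).card ≤ 2 := Finset.card_le_two
        rw [Finset.card_univ, ← Nat.card_eq_fintype_card] at h1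
        omega
      intro γ'
      obtain ⟨g, hg, hgγ⟩ := isPretransitive_of_normal (permSign G Ω).ker hβ.symm ⟨γ, hγ⟩
        (fun δ hδ => by
          obtain ⟨f, hf, rfl⟩ := hFtr δ hδ
          exact ⟨f, map_eq_one_of_odd_card _ hFodd hf, rfl⟩) α γ'
      exact ⟨g, hg, hgγ⟩
    have := eq_one_of_stabilizer (permSign G Ω) α key htr z
    rw [hsz] at this
    exact absurd this (by decide)
  exact ⟨F, a, x, { h with
    n_even := heven, a_mem := haA, a_sq := ha2, a_ne := ha1, F_le := hFle
    F_comm := ⟨⟨mul_comm⟩⟩, F_cyclic := hFc, F_normal := hFn, F_trans := hFtr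
    F_card := hFcard, F_free := hFfree, x_fix := hx.1, x_fix' := hx.2
    x_gen := hxgen', x_sign := hsx, x_coprime := hxo }⟩

end CfsgLib.CyclicZ
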