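import Cfsg.Agent.CyclicZ.PrimitiveMain

/-!
# Groups acting on `p + 1` Sylow subgroups of order `p`
-/

set_option autoImplicit false
set_option linter.style.haveILetI false
set_option linter.unusedSectionVars false

open MulAction

namespace CfsgLib.CyclicZ

variable {G : Type*} [Group G] [Finite G] {p : ℕ} [hp : Fact p.Prime]

/-- A subgroup of `Sym(Σ)`, `|Σ| = p + 1`, normalising an element moving all points but one in a
single cycle of length `p` for each point: its order is at most `(p+1) p (p-1)`. -/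
theorem card_le_of_cycle {X : Type*} [Finite X] (hX : Nat.card X = p + 1)
    (Γ : Subgroup (Equiv.Perm X)) (P₀ : X) {π : Equiv.Perm X} (hord : orderOf π = p)
    (hfix : π P₀ = P₀) (hmove : ∀ Q : X, Q ≠ P₀ → π Q ≠ Q)
    (hnorm : ∀ g ∈ Γ, g P₀ = P₀ → g * π * g⁻¹ ∈ Subgroup.zpowers π) :
    Nat.card Γ ≤ (p + 1) * p * (p - 1) := by
  classical
  obtain ⟨P₁, hP₁⟩ : ∃ Q : X, Q ≠ P₀ := by
    haveI : Nontrivial X := Finite.one_lt_card_iff_nontrivial.mp (by
      have := hp.out.pos; omega)
    exact exists_ne P₀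
  have hzfix : ∀ g ∈ Subgroup.zpowers π, g P₀ = P₀ :=
    fun g hg => (Subgroup.zpowers_le.mpr (show π ∈ stabilizer (Equiv.Perm X) P₀ from hfix) hg : _)
  -- the powers of `π` are transitive on the remaining points
  have htrans : ∀ Q : X, Q ≠ P₀ → ∃ g ∈ Subgroup.zpowers π, g P₁ = Q := by
    have hfree : ∀ g ∈ Subgroup.zpowers π, g P₁ = P₁ → g = 1 := by
      intro g hg hgP
      by_contra hg1
      have hmem : π ∈ Subgroup.zpowers g := by
        have hc : Nat.card (Subgroup.zpowers π) = p := by rw [Nat.card_zpowers, hord]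
        have hle : Subgroup.zpowers g ≤ Subgroup.zpowers π := Subgroup.zpowers_le.mpr hg
        have hgc : Nat.card (Subgroup.zpowers g) = p := by
          refine (hp.out.eq_one_or_self_of_dvd _ (hc ▸ Subgroup.card_dvd_of_le hle)).resolve_left ?_
          intro h1
          exact hg1 (Subgroup.zpowers_eq_bot.mp (Subgroup.eq_bot_of_card_eq _ h1))
        rw [Subgroup.eq_of_le_of_card_ge hle (by rw [hc, hgc])]
        exact Subgroup.mem_zpowers π
      exact hmove P₁ hP₁ ((Subgroup.zpowers_le.mpr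
        (show g ∈ stabilizer (Equiv.Perm X) P₁ from hgP) hmem : _))
    let f : Subgroup.zpowers π → ({P₀}ᶜ : Set X) := fun g =>
      ⟨(g : Equiv.Perm X) P₁, fun he => hP₁ ((g : Equiv.Perm X).injective
        (he.trans (hzfix g g.2).symm))⟩
    have hf : Function.Injective f := fun g k hgk => Subtype.ext (inv_mul_eq_one.mp
      (hfree _ ((Subgroup.zpowers π).mul_mem ((Subgroup.zpowers π).inv_mem k.2) g.2) (by
        have : (g : Equiv.Perm X) P₁ = (k : Equiv.Perm X) P₁ := congrArg Subtype.val hgk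
        rw [Equiv.Perm.mul_apply, this, Equiv.Perm.inv_def, Equiv.symm_apply_apply]))).symm
    have hbij := (Nat.bijective_iff_injective_and_card f).mpr ⟨hf, by
      rw [Nat.card_zpowers, hord, Nat.card_coe_set_eq, Set.ncard_compl, Set.ncard_singleton, hX,
        Nat.add_sub_cancel]⟩
    intro Q hQ
    obtain ⟨g, hg⟩ := hbij.2 ⟨Q, hQ⟩
    exact ⟨g, g.2, congrArg Subtype.val hg⟩
  -- bound on the stabiliser
  let S := stabilizer Γ P₀
  let ψ : S → ({1}ᶜ : Set (Subgroup.zpowers π)) × ({P₀}ᶜ : Set X) := fun g =>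
    (⟨⟨_, hnorm g.1.1 g.1.2 g.2⟩, fun he => by
      have h1 : (g.1 : Equiv.Perm X) * π * (g.1 : Equiv.Perm X)⁻¹ = 1 := congrArg Subtype.val he
      rw [mul_inv_eq_one, mul_eq_left] at h1
      rw [h1, orderOf_one] at hord
      exact hp.out.one_lt.ne hord⟩,
     ⟨(g.1 : Equiv.Perm X) P₁, fun he => hP₁ ((g.1 : Equiv.Perm X).injective
        (he.trans (g.2 : (g.1 : Equiv.Perm X) P₀ = P₀).symm))⟩)
  have hψ : Function.Injective ψ := by
    intro g k hgk
    have h1 : (g.1 : Equiv.Perm X) * π * (g.1 : Equiv.Perm X)⁻¹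
        = (k.1 : Equiv.Perm X) * π * (k.1 : Equiv.Perm X)⁻¹ :=
      congrArg (fun t => ((t.1 : Subgroup.zpowers π) : Equiv.Perm X)) hgk
    have h2 : (g.1 : Equiv.Perm X) P₁ = (k.1 : Equiv.Perm X) P₁ :=
      congrArg (fun t => (t.2 : X)) hgk
    have hgP : (g.1 : Equiv.Perm X) P₀ = P₀ := g.2
    have hkP : (k.1 : Equiv.Perm X) P₀ = P₀ := k.2
    refine Subtype.ext (Subtype.ext (Equiv.ext fun Q => ?_))
    rcases eq_or_ne Q P₀ with rfl | hQ
    · rw [hgP, hkP]
    · obtain ⟨_, ⟨j, rfl⟩, rfl⟩ := htrans Q hQ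
      have h3 := congrArg (fun t => t ^ j) h1
      simp only [conj_zpow] at h3
      rw [mul_inv_eq_iff_eq_mul] at h3
      calc (g.1 : Equiv.Perm X) ((π ^ j) P₁) = ((g.1 : Equiv.Perm X) * π ^ j) P₁ := rfl
        _ = ((k.1 : Equiv.Perm X) * π ^ j * (k.1 : Equiv.Perm X)⁻¹) ((g.1 : Equiv.Perm X) P₁) := by
          rw [h3]; rfl
        _ = (k.1 : Equiv.Perm X) ((π ^ j) P₁) := by
          rw [h2]; simp
  have hS := Nat.card_le_card_of_injective ψ hψ
  rw [Nat.card_prod, Nat.card_coe_set_eq, Nat.card_coe_set_eq, Set.ncard_compl, Set.ncard_compl,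
    Set.ncard_singleton, Set.ncard_singleton, Nat.card_zpowers, hord, hX, Nat.add_sub_cancel] at hS
  have horb : (stabilizer Γ P₀).index ≤ p + 1 := by
    rw [index_stabilizer, ← hX]
    exact Set.ncard_le_card _
  calc Nat.card Γ = (stabilizer Γ P₀).index * Nat.card S := ((stabilizer Γ P₀).index_mul_card).symm
    _ ≤ (p + 1) * ((p - 1) * p) := Nat.mul_le_mul horb hS
    _ = (p + 1) * p * (p - 1) := by ring

/-- If `G` has a normal subgroup `K` with `p + 1` Sylow `p`-subgroups, of order `p`, then the kernel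
`D` of the action on them has index at most `(p+1) p (p-1)`. -/
theorem exists_kernel (K : Subgroup G) [K.Normal] (hn : Nat.card (Sylow p K) = p + 1)
    (hP : ∀ P : Sylow p K, Nat.card P = p) :
    ∃ D : Subgroup G, D.Normal ∧ Subgroup.centralizer (K : Set G) ≤ D ∧
      D.index ≤ (p + 1) * p * (p - 1) ∧
      ∀ u : K, (u : G) ∈ D → ∀ P : Sylow p K, u ∈ Subgroup.normalizer (P : Set K) := by
  classical
  let ρ : G →* Equiv.Perm (Sylow p K) :=
    (MulAction.toPermHom (MulAut K) (Sylow p K)).comp MulAut.conjNormal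
  have hρ : ∀ (g : G) (P : Sylow p K), ρ g P = (MulAut.conjNormal g : MulAut K) • P :=
    fun g P => by simp [ρ]
  have hinner : ∀ (u : K) (P : Sylow p K), ρ (u : G) P = u • P := by
    intro u P
    rw [hρ, Sylow.smul_def]
    congr 1
    exact MulEquiv.ext fun v => Subtype.ext (by simp)
  refine ⟨ρ.ker, inferInstance, fun c hc => ?_, ?_, fun u hu P => ?_⟩
  · rw [MonoidHom.mem_ker]
    refine Equiv.ext fun P => ?_
    rw [hρ, show MulAut.conjNormal c = (1 : MulAut K) from MulEquiv.ext fun v => Subtype.ext (by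
      simp [← Subgroup.mem_centralizer_iff.mp hc v v.2]), one_smul]
    rfl
  · rw [Subgroup.index_ker]
    let P₀ : Sylow p K := default
    obtain ⟨⟨u, huP⟩, hu⟩ := exists_prime_orderOf_dvd_card' (G := P₀) p (by rw [hP])
    rw [Subgroup.orderOf_mk] at hu
    have hP₀ : (P₀ : Subgroup K) = Subgroup.zpowers u :=
      (Subgroup.eq_of_le_of_card_ge (Subgroup.zpowers_le.mpr huP)
        (by rw [Nat.card_zpowers, hu, hP])).symm
    have hmove : ∀ Q : Sylow p K, Q ≠ P₀ → ρ (u : G) Q ≠ Q := by
      intro Q hQ he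
      rw [hinner, Sylow.smul_eq_iff_mem_normalizer] at he
      apply hQ
      have huQ : u ∈ (Q : Subgroup K) := by
        have hpg : IsPGroup p (Subgroup.zpowers u) :=
          IsPGroup.of_card (n := 1) (by rw [Nat.card_zpowers, hu, pow_one])
        have : Subgroup.zpowers u ⊓ Subgroup.normalizer (Q : Set K) = Subgroup.zpowers u ⊓ Q :=
          hpg.inf_normalizer_sylow Q
        have hmem : u ∈ Subgroup.zpowers u ⊓ Subgroup.normalizer (Q : Set K) :=
          ⟨Subgroup.mem_zpowers u, he⟩
        rw [this] at hmem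
        exact hmem.2
      exact Sylow.ext (Subgroup.eq_of_le_of_card_ge
        (hP₀ ▸ Subgroup.zpowers_le.mpr huQ : (P₀ : Subgroup K) ≤ Q) (by rw [hP, hP])).symm
    have hfix : ρ (u : G) P₀ = P₀ := by
      rw [hinner, Sylow.smul_eq_iff_mem_normalizer]
      exact Subgroup.le_normalizer huP
    refine card_le_of_cycle hn ρ.range P₀ (π := ρ (u : G)) ?_ hfix hmove ?_
    · refine orderOf_eq_prime ?_ ?_
      · rw [← map_pow, ← SubmonoidClass.coe_pow,
          show u ^ p = 1 from by conv_lhs => arg 2; rw [← hu]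
                                 exact pow_orderOf_eq_one u, OneMemClass.coe_one, map_one]
      · intro h1
        obtain ⟨Q, hQ⟩ : ∃ Q : Sylow p K, Q ≠ P₀ := by
          haveI : Nontrivial (Sylow p K) := Finite.one_lt_card_iff_nontrivial.mp (by
            have := hp.out.pos; omega)
          exact exists_ne P₀
        exact hmove Q hQ (by rw [h1]; rfl)
    · rintro _ ⟨g, rfl⟩ hg
      rw [← map_inv, ← map_mul, ← map_mul]
      have hmem : (MulAut.conjNormal g : MulAut K) u ∈
          (((MulAut.conjNormal g : MulAut K) • P₀ : Sylow p K) : Subgroup K) := by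
        rw [Sylow.pointwise_smul_def]
        exact Subgroup.smul_mem_pointwise_smul u (MulAut.conjNormal g : MulAut K) _ huP
      rw [show MulAut.conjNormal g • P₀ = P₀ from (hρ g P₀).symm.trans hg, hP₀] at hmem
      obtain ⟨j, hj⟩ := hmem
      have : g * u * g⁻¹ = ((u : G)) ^ j := by
        rw [← SubgroupClass.coe_zpow, show u ^ j = MulAut.conjNormal g u from hj,
          MulAut.conjNormal_apply]
      exact ⟨j, by rw [this, map_zpow]⟩
  · rw [← Sylow.smul_eq_iff_mem_normalizer, ← hinner, MonoidHom.mem_ker.mp hu]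
    rfl

/-- Sylow subgroups along an injective map whose normal image contains a full Sylow subgroup. -/
theorem card_sylow_of_injective {K X : Type*} [Group K] [Group X] [Finite X] (f : K →* X)
    (hf : Function.Injective f) [f.range.Normal] (hfull : ∀ P : Sylow p K, ∀ Q : Sylow p X,
      Nat.card P = Nat.card Q) :
    Nat.card (Sylow p K) = Nat.card (Sylow p X) := by
  haveI : Finite K := Finite.of_injective f hf
  let e : Sylow p K → Sylow p X := fun P => Sylow.ofCard ((P : Subgroup K).map f) (by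
    rw [← Nat.card_congr ((P : Subgroup K).equivMapOfInjective f hf).toEquiv,
      hfull P default, Sylow.card_eq_multiplicity])
  refine Nat.card_congr (Equiv.ofBijective e ⟨fun P P' hPP => ?_, fun Q => ?_⟩)
  · exact Sylow.ext (Subgroup.map_injective hf (congrArg Sylow.toSubgroup hPP))
  · let P₀ : Sylow p K := default
    obtain ⟨g, hg⟩ := exists_smul_eq X (e P₀) Q
    have hQle : (Q : Subgroup X) ≤ f.range := by
      rw [← hg]
      intro v hv
      obtain ⟨w, hw, rfl⟩ := hv
      exact (inferInstance : f.range.Normal).conj_mem w (Subgroup.map_le_range f _ hw) g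
    refine ⟨Q.comapOfInjective f hf hQle, Sylow.ext ?_⟩
    exact Subgroup.map_comap_eq_self hQle

end CfsgLib.CyclicZ
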